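import Groth.Agent.FunFld.K660.Weil

/-!
# Places of degree one, genus zero and one; strong approximation
-/

set_option autoImplicit false

namespace K660.LowGenus

open WithZero FunFld K660.Ord K660.Places K660.CrvFin K660.Compare K660.Weil
open Groth.Agent.Models.FFLen Groth.Agent.Models.FFRR

universe u v

variable {k : Type u} {K : Type v} [Field k] [Field K] [Algebra k K]

/-- Powers of an element with a pole at `P` are linearly independent. -/
theorem linearIndependent_pow {x : K} (hx : Transcendental k x) (n : ℕ) :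
    LinearIndependent k fun i : Fin (n + 1) => x ^ (i : ℕ) := by
  rw [transcendental_iff] at hx
  rw [Fintype.linearIndependent_iff]
  intro g hg i
  let p : Polynomial k := ∑ i : Fin (n + 1), Polynomial.monomial i (g i)
  have hp : Polynomial.aeval x p = 0 := by
    simp only [p, map_sum, Polynomial.aeval_monomial]
    rw [← hg]
    refine Finset.sum_congr rfl fun i _ => ?_
    rw [Algebra.smul_def]
  have h0 := hx p hp
  have h1 : p.coeff i = g i := by
    simp only [p, Polynomial.finsetSum_coeff, Polynomial.coeff_monomial]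
    rw [Finset.sum_eq_single i]
    · simp
    · intro j _ hj
      rw [if_neg]
      intro h
      exact hj (Fin.ext h)
    · simp
  rw [← h1, h0, Polynomial.coeff_zero]

theorem transcendental_of_ord_ne_zero (P : Place k K) {x : K} (hx : P.ord x ≠ 0) :
    Transcendental k x := by
  intro h
  by_cases h0 : x = 0
  · rw [h0, ord_zero] at hx
    exact hx rfl
  -- integral both ways
  have h1 : ∀ {z : K}, IsAlgebraic k z → P.1 z ≤ 1 := fun hz =>
    val_le_one_of_isIntegral P P.2.1 hz.isIntegral
  have h2 := h1 h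
  have h3 := h1 h.inv
  rw [val_le_one_iff P h0] at h2
  rw [val_le_one_iff P (inv_ne_zero h0), ord_inv] at h3
  omega

/-- A function with a single pole, simple at a place of degree one, forces genus zero. -/
theorem genus_eq_zero_of_mem_L_single (hK : IsFunctionField k K) {P : Place k K} (hP : P.deg = 1)
    {x : K} (hx : x ∈ L (Finsupp.single P 1 : Divisor k K)) (hxc : x ∉ Set.range (algebraMap k K)) :
    genus k K = 0 := by
  obtain ⟨N, hN0, hN⟩ := riemann hK
  have h1 := hN (Finsupp.single P (N.toNat : ℤ)) (by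
    rw [deg_single, hP]
    push_cast
    omega)
  rw [deg_single, hP] at h1
  have htr := transcendental_of_notMem hK hxc
  have hli := linearIndependent_pow htr N.toNat
  have hmem : ∀ i : Fin (N.toNat + 1), x ^ (i : ℕ) ∈ L (Finsupp.single P (N.toNat : ℤ) : Divisor k K) := by
    intro i Q
    have hQ := hx Q
    rw [map_pow]
    calc Q.1 x ^ (i : ℕ) ≤ exp ((Finsupp.single P (1 : ℤ) : Divisor k K) Q) ^ (i : ℕ) := by
          gcongr
      _ = exp ((i : ℕ) • (Finsupp.single P (1 : ℤ) : Divisor k K) Q) := by rw [exp_nsmul]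
      _ ≤ _ := by
        rw [exp_le_exp]
        have hi : (i : ℕ) ≤ N.toNat := Nat.lt_succ_iff.1 i.2
        by_cases hPQ : P = Q
        · subst hPQ
          simp only [Finsupp.single_eq_same, nsmul_eq_mul, mul_one]
          exact_mod_cast hi
        · simp [hPQ]
  have hfin := finite_L hK (Finsupp.single P (N.toNat : ℤ) : Divisor k K)
  have hli' : LinearIndependent k fun i : Fin (N.toNat + 1) =>
      (⟨x ^ (i : ℕ), hmem i⟩ : L (Finsupp.single P (N.toNat : ℤ) : Divisor k K)) := by
    apply LinearIndependent.of_comp (Submodule.subtype _)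
    exact hli
  have h2 := hli'.fintype_card_le_finrank
  rw [Fintype.card_fin] at h2
  change _ ≤ ell _ at h2
  push_cast at h1 h2
  omega

/-- In positive genus, distinct places of degree one are not linearly equivalent. -/
theorem eq_of_single_sub_single_eq_div (hK : IsFunctionField k K) (hg : 0 < genus k K)
    {P P' : Place k K} (hP' : P'.deg = 1) {x : K}
    (h : Finsupp.single P 1 - Finsupp.single P' 1 = div k x) : P = P' := by
  by_contra hne
  have h0 : genus k K = 0 := by
    refine genus_eq_zero_of_mem_L_single hK hP' (x := x) ?_ ?_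
    · intro Q
      by_cases hx : x = 0
      · rw [hx, map_zero]
        exact zero_le
      · rw [val_eq_exp_div hK hx, ← h, exp_le_exp, Finsupp.sub_apply]
        have : (0 : ℤ) ≤ (Finsupp.single P (1 : ℤ) : Divisor k K) Q :=
          (Finsupp.single_nonneg.2 zero_le_one : (0 : Divisor k K) ≤ _) Q
        omega
    · rintro ⟨c, rfl⟩
      have h1 := DFunLike.congr_fun h P
      rw [div_algebraMap hK, Finsupp.sub_apply, Finsupp.single_eq_same,
        Finsupp.single_eq_of_ne hne] at h1
      simp at h1
  omega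

/-- An effective divisor of degree one is a place of degree one. -/
theorem eq_single_of_deg_eq_one (hK : IsFunctionField k K) {D : Divisor k K} (hD : 0 ≤ D)
    (h1 : D.deg = 1) : ∃ P : Place k K, P.deg = 1 ∧ D = Finsupp.single P 1 := by
  obtain ⟨P, hP⟩ : ∃ P, D P ≠ 0 := by
    by_contra h
    push Not at h
    have : D = 0 := Finsupp.ext h
    rw [this, deg_zero] at h1
    omega
  have hP' : 1 ≤ D P := by
    have := hD P
    simp only [Finsupp.coe_zero, Pi.zero_apply] at this
    omega
  have h2 : 0 ≤ D - Finsupp.single P 1 := by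
    intro Q
    rw [Finsupp.sub_apply]
    by_cases hPQ : P = Q
    · subst hPQ
      simp only [Finsupp.coe_zero, Pi.zero_apply, Finsupp.single_eq_same]
      omega
    · rw [Finsupp.single_eq_of_ne (Ne.symm hPQ), sub_zero]
      exact hD Q
  have h3 := deg_nonneg h2
  rw [deg_sub, deg_single, h1] at h3
  have h4 := place_deg_pos hK P
  have h5 : P.deg = 1 := by omega
  refine ⟨P, h5, ?_⟩
  by_contra hne
  have h6 := deg_pos hK h2 (fun h => hne (sub_eq_zero.1 h))
  rw [deg_sub, deg_single, h1, h5] at h6
  omega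

theorem genus_one_class (hK : IsFunctionField k K) (hg : genus k K = 1) {P₀ : Place k K}
    (hP : P₀.deg = 1) {D : Divisor k K} (hD : D.deg = 0) :
    ∃! P : Place k K, P.deg = 1 ∧
      ∃ x : K, x ≠ 0 ∧ D = Finsupp.single P 1 - Finsupp.single P₀ 1 + div k x := by
  have h1 : (ell (D + Finsupp.single P₀ 1) : ℤ) = 1 := by
    rw [ell_eq_of_deg_ge hK (by rw [deg_add, deg_single, hD, hP, hg]; norm_num), deg_add,
      deg_single, hD, hP, hg]
    norm_num
  have h2 : L (D + Finsupp.single P₀ 1) ≠ ⊥ := by
    intro h'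
    unfold ell at h1
    rw [h', finrank_bot] at h1
    simp at h1
  obtain ⟨x, hx, hx0⟩ := (Submodule.ne_bot_iff _).mp h2
  rw [mem_L_iff hK hx0] at hx
  obtain ⟨P, hP1, hPD⟩ := eq_single_of_deg_eq_one hK hx (by
    rw [deg_add, deg_add, deg_div hK, deg_single, hD, hP]
    norm_num)
  refine ⟨P, ⟨hP1, x⁻¹, inv_ne_zero hx0, ?_⟩, ?_⟩
  · rw [div_inv hK, ← hPD]
    abel
  · rintro Q ⟨hQ1, y, hy0, hy⟩
    refine eq_of_single_sub_single_eq_div hK (by omega) hP1 (x := x⁻¹ * y⁻¹) ?_
    rw [div_mul hK (inv_ne_zero hx0) (inv_ne_zero hy0), div_inv hK, div_inv hK, ← hPD]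
    rw [hy]
    abel

/-- Strong approximation in a function field. -/
theorem strong_approximation (hK : IsFunctionField k K) (Pinf : Place k K) (n : ℕ)
    (P : Fin n → Place k K) (hP : Function.Injective P) (hinf : Pinf ∉ Set.range P)
    (x : Fin n → K) (m : Fin n → ℤ) :
    ∃ y : K, (∀ i, (P i).1 (y - x i) = exp (-(m i))) ∧
      ∀ Q : Place k K, Q ≠ Pinf → Q ∉ Set.range P → Q.1 y ≤ 1 := by
  classical
  obtain ⟨c, hc0, hc⟩ := exists_bound hK
  choose z hz using fun i => exists_val_eq (P i) (-(m i))
  -- the bounding divisor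
  let E : Divisor k K := ∑ i : Fin n, Finsupp.single (P i) (-(m i) - 1)
  let D : Divisor k K := E + Finsupp.single Pinf ((c - E.deg).toNat : ℤ)
  have hEP : ∀ i, E (P i) = -(m i) - 1 := by
    intro i
    simp only [E, Finsupp.finsetSum_apply]
    rw [Finset.sum_eq_single i]
    · simp
    · intro j _ hj
      rw [Finsupp.single_eq_of_ne]
      exact fun h => hj (hP h).symm
    · simp
  have hEQ : ∀ Q, Q ∉ Set.range P → E Q = 0 := by
    intro Q hQ
    simp only [E, Finsupp.finsetSum_apply]
    refine Finset.sum_eq_zero fun i _ => ?_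
    rw [Finsupp.single_eq_of_ne]
    rintro rfl
    exact hQ ⟨i, rfl⟩
  have hDdeg : c ≤ D.deg := by
    simp only [D]
    rw [deg_add, deg_single]
    have h1 := place_deg_pos hK Pinf
    have h2 : c - E.deg ≤ ((c - E.deg).toNat : ℤ) := Int.self_le_toNat _
    have h3 : ((c - E.deg).toNat : ℤ) ≤ ((c - E.deg).toNat : ℤ) * (Pinf.deg : ℤ) :=
      le_mul_of_one_le_right (by positivity) (by exact_mod_cast h1)
    linarith
  have hi := hc D hDdeg
  -- everything is `A(D) + K`
  have hall : (crv hK).Rk ≤ (crv hK).AA D ⊔ Crv.KK k K (Place k K) := by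
    have h1 := (crv_fin hK).h1_ne_top D
    unfold ispec Crv.i at hi
    rw [ENat.toNat_eq_zero] at hi
    rcases hi with hi | hi
    · unfold Crv.h1 at hi
      rwa [rlen_eq_zero_iff] at hi
    · exact absurd hi h1
  -- the repartition
  let a : Place k K → K := fun Q => if h : ∃ i, P i = Q then x h.choose + z h.choose else 0
  have haP : ∀ i, a (P i) = x i + z i := by
    intro i
    have h : ∃ j, P j = P i := ⟨i, rfl⟩
    simp only [a]
    rw [dif_pos h, hP h.choose_spec]
  have haQ : ∀ Q, Q ∉ Set.range P → a Q = 0 := by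
    intro Q hQ
    simp only [a]
    rw [dif_neg]
    rintro ⟨i, hi⟩
    exact hQ ⟨i, hi⟩
  have haR : a ∈ (crv hK).Rk := by
    rw [Crv.mem_Rk]
    refine (Set.finite_range P).subset ?_
    intro Q hQ
    by_contra h
    apply hQ
    rw [haQ Q h]
    simp
  obtain ⟨b, hb, d, ⟨y, rfl⟩, hbd⟩ := Submodule.mem_sup.1 (hall haR)
  have hby : ∀ Q, Q.1 (a Q - y) ≤ exp (D Q) := by
    intro Q
    have h1 := congrFun hbd Q
    have h2 : a Q - y = b Q := by
      rw [← h1]
      simp
    rw [h2]
    exact hb Q
  refine ⟨y, fun i => ?_, fun Q hQ hQP => ?_⟩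
  · have h1 := hby (P i)
    have h2 : D (P i) = -(m i) - 1 := by
      simp only [D, Finsupp.add_apply]
      rw [hEP, Finsupp.single_eq_of_ne, add_zero]
      rintro h
      exact hinf ⟨i, h⟩
    rw [haP, h2] at h1
    have h3 : (P i).1 (x i + z i - y) < (P i).1 (z i) := by
      rw [hz]
      refine lt_of_le_of_lt h1 ?_
      rw [exp_lt_exp]
      omega
    have h4 : y - x i = z i - (x i + z i - y) := by ring
    rw [h4, Valuation.map_sub_eq_of_lt_left _ h3, hz]
  · have h1 := hby Q
    have h2 : D Q = 0 := by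
      simp only [D, Finsupp.add_apply]
      rw [hEQ Q hQP, Finsupp.single_eq_of_ne hQ, add_zero]
    rw [haQ Q hQP, h2, exp_zero, zero_sub, Valuation.map_neg] at h1
    exact h1

end K660.LowGenus
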