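import Groth.Agent.FunFld.K660.CrvFin
import Groth.Agent.Models.FFRR3

/-!
# Comparison of `FunFld` with the abstract curve of places

`AD`, `L`, `adele`, `diag`, degrees, `ell`, `div`, `genus`, `WD` in terms of `crv hK`; Riemann's theorem.
-/

set_option autoImplicit false

namespace K660.Compare

open WithZero FunFld K660.Ord K660.Places K660.CrvFin
open Groth.Agent.Models.FFLen Groth.Agent.Models.FFRR

universe u v

variable {k : Type u} {K : Type v} [Field k] [Field K] [Algebra k K]

section NoHyp

variable (hK : IsFunctionField k K)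

theorem AD_eq (D : Divisor k K) : AD D = (crv hK).AA D := rfl

theorem L_eq (D : Divisor k K) : L D = (crv hK).L D := rfl

theorem diag_eq : diag k K = Crv.dg := rfl

theorem range_diag : LinearMap.range (diag k K) = Crv.KK k K (Place k K) := rfl

theorem adele_eq : adele k K = (crv hK).Rk := by
  ext a
  rw [Crv.mem_Rk]
  change (∀ᶠ P : Place k K in Filter.cofinite, P.1 (a P) ≤ 1) ↔ _
  rw [Filter.eventually_cofinite]
  rfl

theorem mem_adele (a : Place k K → K) : a ∈ adele k K ↔ {P : Place k K | ¬ P.1 (a P) ≤ 1}.Finite := by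
  change (∀ᶠ P : Place k K in Filter.cofinite, P.1 (a P) ≤ 1) ↔ _
  rw [Filter.eventually_cofinite]

theorem AD_le_adele (D : Divisor k K) : AD D ≤ adele k K := by
  intro a ha
  rw [mem_adele]
  refine (D.support.finite_toSet).subset ?_
  intro P hP
  by_contra h
  simp only [SetLike.mem_coe, Finsupp.mem_support_iff, not_not] at h
  apply hP
  have := ha P
  rwa [h, exp_zero] at this

include hK in
theorem range_diag_le_adele : LinearMap.range (diag k K) ≤ adele k K := by
  rw [adele_eq hK]
  exact (crv hK).KK_le_Rk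

include hK in
theorem AD_sup_range_le_adele (D : Divisor k K) : AD D ⊔ LinearMap.range (diag k K) ≤ adele k K :=
  sup_le (AD_le_adele D) (range_diag_le_adele hK)

end NoHyp

section Residue

/-- The residue field of `P` as the quotient of `Fil 0` by `Fil (-1)`. -/
theorem finite_residue_and_degG (h : ∃ t : K, IsGen k K t) (P : Place k K) :
    FiniteDimensional k (IsLocalRing.ResidueField P.O) ∧ P.deg = (crvG h).dg0 P := by
  let F0 := (crvG h).Fil P 0
  let F1 := (crvG h).Fil P (-1)
  have hF0 : ∀ x : K, x ∈ F0 ↔ P.1 x ≤ 1 := fun x => by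
    change P.1 x ≤ exp 0 ↔ _
    rw [exp_zero]
  have hF1 : ∀ x : K, x ∈ F1 ↔ P.1 x < 1 := fun x => by
    rw [lt_one_iff_le]
    rfl
  let g : F0 →ₗ[k] IsLocalRing.ResidueField P.O :=
    { toFun := fun x => IsLocalRing.residue P.O ⟨x.1, (hF0 x.1).1 x.2⟩
      map_add' := fun x y => by
        rw [← map_add]
        rfl
      map_smul' := fun c x => by
        refine Eq.trans ?_ (Algebra.smul_def c _).symm
        change _ = IsLocalRing.residue P.O (algebraMap k P.O c) * _
        rw [← map_mul]
        congr 1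
        apply Subtype.ext
        change ((c • x : F0) : K) = algebraMap k K c * x
        rw [Submodule.coe_smul, Algebra.smul_def] }
  have hg : Function.Surjective g := by
    intro y
    obtain ⟨x, rfl⟩ := IsLocalRing.residue_surjective y
    exact ⟨⟨x.1, (hF0 x.1).2 x.2⟩, rfl⟩
  have hker : LinearMap.ker g = F1.submoduleOf F0 := by
    ext x
    rw [LinearMap.mem_ker]
    change IsLocalRing.residue P.O ⟨x.1, (hF0 x.1).1 x.2⟩ = 0 ↔ _
    rw [IsLocalRing.residue_eq_zero_iff, mem_subOf, hF1]
    exact (Valuation.mem_maximalIdeal_iff (v := P.1))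
  have e : (F0 ⧸ F1.submoduleOf F0) ≃ₗ[k] IsLocalRing.ResidueField P.O := by
    rw [← hker]
    exact g.quotKerEquivOfSurjective hg
  have hlen : rlen F1 F0 = Module.length k (IsLocalRing.ResidueField P.O) := e.length_eq
  have hne := crvG_finRes h P
  have hne' : Module.length k (IsLocalRing.ResidueField P.O) ≠ ⊤ := by
    rw [← hlen]
    exact hne
  have hfin : FiniteDimensional k (IsLocalRing.ResidueField P.O) := by
    rw [Module.length_ne_top_iff] at hne'
    have := ((isFiniteLength_iff_isNoetherian_isArtinian).mp hne').1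
    exact Module.IsNoetherian.finite k _
  refine ⟨hfin, ?_⟩
  unfold Crv.dg0 Place.deg
  change _ = (rlen F1 F0).toNat
  rw [hlen, Module.length_eq_finrank]
  rfl

theorem finite_residue_and_deg (hK : IsFunctionField k K) (P : Place k K) :
    FiniteDimensional k (IsLocalRing.ResidueField P.O) ∧ P.deg = (crv hK).dg0 P :=
  finite_residue_and_degG _ P

theorem finite_residue (hK : IsFunctionField k K) (P : Place k K) :
    FiniteDimensional k (IsLocalRing.ResidueField P.O) := (finite_residue_and_deg hK P).1

theorem place_deg_eq (hK : IsFunctionField k K) (P : Place k K) : P.deg = (crv hK).dg0 P :=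
  (finite_residue_and_deg hK P).2

theorem place_deg_pos (hK : IsFunctionField k K) (P : Place k K) : 0 < P.deg := by
  rw [place_deg_eq hK]
  exact (crv_fin hK).dg0_pos P

end Residue

section Degree

/-- the degree is additive (no hypothesis). -/
theorem deg_eq_degHom (D : Divisor k K) : D.deg = D.sum fun P n => n * (P.deg : ℤ) := rfl

theorem deg_add (D E : Divisor k K) : (D + E).deg = D.deg + E.deg := by
  unfold Divisor.deg
  rw [Finsupp.sum_add_index']
  · intro P
    simp
  · intro P a b
    ring

@[simp] theorem deg_zero : (0 : Divisor k K).deg = 0 := by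
  unfold Divisor.deg
  simp

theorem deg_neg (D : Divisor k K) : (-D).deg = -D.deg := by
  have h := deg_add (-D) D
  rw [neg_add_cancel, deg_zero] at h
  omega

theorem deg_sub (D E : Divisor k K) : (D - E).deg = D.deg - E.deg := by
  rw [sub_eq_add_neg, deg_add, deg_neg]
  ring

@[simp] theorem deg_single (P : Place k K) (n : ℤ) :
    Divisor.deg (Finsupp.single P n) = n * (P.deg : ℤ) := by
  unfold Divisor.deg
  simp

theorem deg_zsmul (n : ℤ) (D : Divisor k K) : (n • D).deg = n * D.deg := by
  unfold Divisor.deg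
  rw [Finsupp.sum_smul_index' (by simp), Finsupp.mul_sum]
  simp [mul_assoc]

theorem deg_nonneg {D : Divisor k K} (hD : 0 ≤ D) : 0 ≤ D.deg := by
  unfold Divisor.deg Finsupp.sum
  exact Finset.sum_nonneg fun P _ => mul_nonneg (hD P) (by positivity)

theorem deg_mono {D E : Divisor k K} (h : D ≤ E) : D.deg ≤ E.deg := by
  have := deg_nonneg (sub_nonneg.mpr h)
  rw [deg_sub] at this
  omega

theorem deg_eq (hK : IsFunctionField k K) (D : Divisor k K) : D.deg = (crv hK).deg D := by
  unfold Divisor.deg Crv.deg
  rw [Finsupp.liftAddHom_apply]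
  refine Finsupp.sum_congr fun P _ => ?_
  rw [place_deg_eq hK]
  rfl

theorem deg_pos (hK : IsFunctionField k K) {D : Divisor k K} (hD : 0 ≤ D) (h0 : D ≠ 0) :
    0 < D.deg := by
  rw [deg_eq hK]
  exact (crv_fin hK).deg_pos hD h0

end Degree

section Div

variable (hK : IsFunctionField k K)

include hK in
theorem finite_support_ord (x : K) : (Function.support fun P : Place k K => P.ord x).Finite := by
  refine ((finite_pole hK x).union (finite_pole hK x⁻¹)).subset ?_
  intro P hP
  by_contra hcon
  simp only [Set.mem_union, Set.mem_ofPred_eq, not_or, not_not] at hcon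
  apply hP
  by_cases hx : x = 0
  · simp [hx]
  · rw [val_le_one_iff P hx, val_le_one_iff P (inv_ne_zero hx), ord_inv] at hcon
    change P.ord x = 0
    omega

include hK in
theorem div_apply (x : K) (P : Place k K) : div k x P = P.ord x := by
  unfold FunFld.div
  rw [dif_pos (finite_support_ord hK x)]
  rfl

theorem div_eq (x : K) : div k x = (crv hK).div x := by
  ext P
  rw [div_apply hK]
  rfl

include hK in
theorem val_eq_exp_div {x : K} (hx : x ≠ 0) (P : Place k K) : P.1 x = exp (-(div k x P)) := by
  rw [div_apply hK, ← val_eq_exp P hx]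

include hK in
@[simp] theorem div_zero : div k (0 : K) = 0 := by
  ext P
  rw [div_apply hK]
  simp

include hK in
@[simp] theorem div_one : div k (1 : K) = 0 := by
  ext P
  rw [div_apply hK]
  simp

include hK in
theorem div_mul {x y : K} (hx : x ≠ 0) (hy : y ≠ 0) : div k (x * y) = div k x + div k y := by
  ext P
  rw [Finsupp.add_apply, div_apply hK, div_apply hK, div_apply hK, ord_mul P hx hy]

include hK in
theorem div_inv (x : K) : div k x⁻¹ = -div k x := by
  ext P
  rw [Finsupp.neg_apply, div_apply hK, div_apply hK, ord_inv]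

include hK in
theorem div_div {x y : K} (hx : x ≠ 0) (hy : y ≠ 0) : div k (x / y) = div k x - div k y := by
  rw [div_eq_mul_inv, div_mul hK hx (inv_ne_zero hy), div_inv hK, sub_eq_add_neg]

include hK in
theorem div_pow (x : K) (n : ℕ) : div k (x ^ n) = n • div k x := by
  ext P
  rw [Finsupp.smul_apply, div_apply hK, div_apply hK, ord_pow, nsmul_eq_mul]

include hK in
theorem div_algebraMap (c : k) : div k (algebraMap k K c) = 0 := by
  ext P
  rw [div_apply hK]
  simp

include hK in
theorem div_smul {c : k} (hc : c ≠ 0) (x : K) : div k (c • x) = div k x := by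
  ext P
  rw [div_apply hK, div_apply hK, ord_smul P hc]

include hK in
/-- Principal divisors have degree zero. -/
theorem deg_div (x : K) : (div k x).deg = 0 := by
  by_cases hx : x = 0
  · rw [hx, div_zero hK, deg_zero]
  · rw [deg_eq hK, div_eq hK]
    exact (crv_fin hK).deg_div hx

end Div

section Ell

variable (hK : IsFunctionField k K)

include hK in
theorem finite_L (D : Divisor k K) : FiniteDimensional k (L D) := by
  have := nonempty_place hK
  rw [L_eq hK]
  exact (crv_fin hK).finite_L D

theorem ell_eq (D : Divisor k K) : ell D = (crv hK).l D := by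
  have := nonempty_place hK
  unfold ell
  rw [L_eq hK]
  exact (crv_fin hK).finrank_L D

theorem mem_L {D : Divisor k K} {x : K} : x ∈ L D ↔ ∀ P : Place k K, P.1 x ≤ exp (D P) := Iff.rfl

include hK in
theorem mem_L_iff {D : Divisor k K} {x : K} (hx : x ≠ 0) : x ∈ L D ↔ 0 ≤ D + div k x := by
  rw [L_eq hK, div_eq hK]
  exact (crv hK).mem_L_iff hx D

theorem mem_L_iff_ord {D : Divisor k K} {x : K} (hx : x ≠ 0) :
    x ∈ L D ↔ ∀ P : Place k K, 0 ≤ P.ord x + D P := by
  rw [mem_L]
  refine forall_congr' fun P => ?_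
  rw [val_le_exp_iff P hx]
  omega

theorem L_mono {D E : Divisor k K} (h : D ≤ E) : L D ≤ L E := fun _ hx P =>
  (hx P).trans (exp_le_exp.2 (h P))

include hK in
theorem L_zero : L (0 : Divisor k K) = 1 := by
  ext x
  rw [Submodule.mem_one]
  constructor
  · intro hx
    obtain ⟨c, hc⟩ := mem_range_of_forall_le hK (f := x) fun P => hx P
    exact ⟨c, hc⟩
  · rintro ⟨c, rfl⟩ P
    exact P.2.1 c

include hK in
theorem ell_zero : ell (0 : Divisor k K) = 1 := by
  unfold ell
  rw [L_zero hK, Submodule.one_eq_range, LinearMap.finrank_range_of_inj]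
  · exact Module.finrank_self k
  · exact (algebraMap k K).injective

theorem l_zero : (crv hK).l 0 = 1 := by
  rw [← ell_eq hK, ell_zero hK]

/-- `i(D)`, the index of speciality. -/
noncomputable def ispec (D : Divisor k K) : ℕ := (crv hK).i D

theorem ell_eq_deg (D : Divisor k K) :
    (ell D : ℤ) = D.deg + 1 - (ispec hK 0 : ℤ) + ispec hK D := by
  have h := (crv_fin hK).chi D
  rw [l_zero hK, ← ell_eq hK, ← deg_eq hK] at h
  unfold ispec
  push_cast at h
  omega

theorem exists_bound : ∃ c : ℤ, 0 ≤ c ∧ ∀ D : Divisor k K, c ≤ D.deg → ispec hK D = 0 := by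
  have := nonempty_place hK
  obtain ⟨c, hc0, hc⟩ := (crv_fin hK).exists_bound
  refine ⟨c, hc0, fun D hD => hc D ?_⟩
  rwa [← deg_eq hK]

include hK in
theorem exists_deg_ge (n : ℤ) : ∃ D : Divisor k K, 0 ≤ D ∧ n ≤ D.deg := by
  obtain ⟨P⟩ := nonempty_place hK
  refine ⟨Finsupp.single P (n.toNat : ℤ), ?_, ?_⟩
  · exact Finsupp.single_nonneg.2 (by positivity)
  · rw [deg_single]
    have h1 : (1 : ℤ) ≤ P.deg := by exact_mod_cast place_deg_pos hK P
    have h2 : n ≤ (n.toNat : ℤ) := Int.self_le_toNat n
    nlinarith [Int.natCast_nonneg n.toNat]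

/-- The genus is `i(0)`. -/
theorem genus_eq : genus k K = ispec hK 0 := by
  obtain ⟨c, hc0, hc⟩ := exists_bound hK
  obtain ⟨D, hD0, hD⟩ := exists_deg_ge hK c
  unfold genus
  have hle : ∀ D : Divisor k K, (D.deg + 1 - (ell D : ℤ)).toNat ≤ ispec hK 0 := by
    intro D
    have := ell_eq_deg hK D
    omega
  apply le_antisymm
  · apply csSup_le (Set.range_nonempty _)
    rintro _ ⟨D, rfl⟩
    exact hle D
  · apply le_csSup
    · refine ⟨ispec hK 0, ?_⟩
      rintro _ ⟨D, rfl⟩
      exact hle D
    · refine ⟨D, ?_⟩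
      have h1 := ell_eq_deg hK D
      have h2 := hc D hD
      change (D.deg + 1 - (ell D : ℤ)).toNat = _
      omega

theorem ell_eq_genus (D : Divisor k K) :
    (ell D : ℤ) = D.deg + 1 - (genus k K : ℤ) + ispec hK D := by
  rw [genus_eq hK]
  exact ell_eq_deg hK D

include hK in
/-- Riemann's inequality. -/
theorem deg_add_one_sub_ell_le (D : Divisor k K) : D.deg + 1 - (ell D : ℤ) ≤ genus k K := by
  have := ell_eq_genus hK D
  omega

include hK in
theorem riemann : ∃ N : ℤ, 0 ≤ N ∧ ∀ D : Divisor k K, N ≤ D.deg →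
    D.deg + 1 - (ell D : ℤ) = genus k K := by
  obtain ⟨c, hc0, hc⟩ := exists_bound hK
  refine ⟨c, hc0, fun D hD => ?_⟩
  have h1 := ell_eq_genus hK D
  have h2 := hc D hD
  omega

include hK in
theorem L_eq_bot_of_deg_neg {D : Divisor k K} (h : D.deg < 0) : L D = ⊥ := by
  rw [Submodule.eq_bot_iff]
  intro x hx
  by_contra hx0
  have h1 := (mem_L_iff hK hx0).1 hx
  have h2 := deg_nonneg h1
  rw [deg_add, deg_div hK] at h2
  omega

include hK in
theorem ell_eq_zero_of_deg_neg {D : Divisor k K} (h : D.deg < 0) : ell D = 0 := by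
  unfold ell
  rw [L_eq_bot_of_deg_neg hK h]
  exact finrank_bot k K

end Ell

end K660.Compare
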