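import Groth.Prelude.Def_W4bk4goldsch23FF

/-!
# Elementary facts on `ℤᵐ⁰` and on `FunFld.Place.ord`
-/

set_option autoImplicit false

namespace K660.Ord

open WithZero FunFld

section ZM

variable {a b : ℤᵐ⁰} {n : ℤ}

theorem le_exp_iff (ha : a ≠ 0) : a ≤ exp n ↔ log a ≤ n := (log_le_iff_le_exp ha).symm

theorem lt_exp_iff (ha : a ≠ 0) : a < exp n ↔ log a < n := (log_lt_iff_lt_exp ha).symm

theorem le_one_iff (ha : a ≠ 0) : a ≤ 1 ↔ log a ≤ 0 := by
  rw [← exp_zero (M := ℤ), le_exp_iff ha]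

theorem lt_one_iff (ha : a ≠ 0) : a < 1 ↔ log a < 0 := by
  rw [← exp_zero (M := ℤ), lt_exp_iff ha]

theorem one_lt_iff (ha : a ≠ 0) : 1 < a ↔ 0 < log a := by
  rw [← not_le, le_one_iff ha, not_le]

theorem one_le_iff (ha : a ≠ 0) : 1 ≤ a ↔ 0 ≤ log a := by
  rw [← not_lt, lt_one_iff ha, not_lt]

theorem lt_exp_iff_le : a < exp n ↔ a ≤ exp (n - 1) := by
  by_cases ha : a = 0
  · subst ha
    simp
  · rw [lt_exp_iff ha, le_exp_iff ha]
    omega

theorem lt_one_iff_le : a < 1 ↔ a ≤ exp (-1 : ℤ) := by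
  rw [← exp_zero (M := ℤ), lt_exp_iff_le]
  simp

theorem eq_exp_of_ne_zero (ha : a ≠ 0) : a = exp (log a) := (exp_log ha).symm

end ZM

variable {k K : Type*} [Field k] [Field K] [Algebra k K] (P : Place k K)

theorem val_ne_zero {x : K} (hx : x ≠ 0) : P.1 x ≠ 0 := (Valuation.ne_zero_iff _).2 hx

theorem ord_def (x : K) : P.ord x = -log (P.1 x) := rfl

theorem val_eq_exp {x : K} (hx : x ≠ 0) : P.1 x = exp (-(P.ord x)) := by
  rw [ord_def, neg_neg, exp_log (val_ne_zero P hx)]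

theorem ord_eq_of_val {x : K} {n : ℤ} (h : P.1 x = exp n) : P.ord x = -n := by
  rw [ord_def, h, log_exp]

theorem val_eq_exp_iff {x : K} (hx : x ≠ 0) {n : ℤ} : P.1 x = exp n ↔ P.ord x = -n := by
  rw [val_eq_exp P hx, exp_inj]
  omega

@[simp] theorem ord_zero : P.ord 0 = 0 := by simp [ord_def]

@[simp] theorem ord_one : P.ord 1 = 0 := by simp [ord_def]

theorem val_le_exp_iff {x : K} (hx : x ≠ 0) {n : ℤ} : P.1 x ≤ exp n ↔ -n ≤ P.ord x := by
  rw [le_exp_iff (val_ne_zero P hx), ord_def]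
  omega

theorem val_lt_exp_iff {x : K} (hx : x ≠ 0) {n : ℤ} : P.1 x < exp n ↔ -n < P.ord x := by
  rw [lt_exp_iff (val_ne_zero P hx), ord_def]
  omega

theorem val_le_one_iff {x : K} (hx : x ≠ 0) : P.1 x ≤ 1 ↔ 0 ≤ P.ord x := by
  rw [le_one_iff (val_ne_zero P hx), ord_def]
  omega

theorem val_lt_one_iff {x : K} (hx : x ≠ 0) : P.1 x < 1 ↔ 0 < P.ord x := by
  rw [lt_one_iff (val_ne_zero P hx), ord_def]
  omega

theorem one_lt_val_iff {x : K} : 1 < P.1 x ↔ P.ord x < 0 := by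
  by_cases hx : x = 0
  · subst hx
    simp
  · rw [one_lt_iff (val_ne_zero P hx), ord_def]
    omega

theorem eq_one_iff {a : ℤᵐ⁰} (ha : a ≠ 0) : a = 1 ↔ log a = 0 := by
  constructor
  · rintro rfl
    exact log_one
  · intro h
    rw [← exp_log ha, h, exp_zero]

theorem val_eq_one_iff {x : K} (hx : x ≠ 0) : P.1 x = 1 ↔ P.ord x = 0 := by
  rw [eq_one_iff (val_ne_zero P hx), ord_def]
  omega

theorem ord_mul {x y : K} (hx : x ≠ 0) (hy : y ≠ 0) : P.ord (x * y) = P.ord x + P.ord y := by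
  rw [ord_def, ord_def, ord_def, map_mul, log_mul (val_ne_zero P hx) (val_ne_zero P hy)]
  ring

@[simp] theorem ord_inv (x : K) : P.ord x⁻¹ = -P.ord x := by
  rw [ord_def, ord_def, map_inv₀, log_inv]

theorem ord_div {x y : K} (hx : x ≠ 0) (hy : y ≠ 0) : P.ord (x / y) = P.ord x - P.ord y := by
  rw [div_eq_mul_inv, ord_mul P hx (inv_ne_zero hy), ord_inv]
  ring

@[simp] theorem ord_pow (x : K) (n : ℕ) : P.ord (x ^ n) = n * P.ord x := by
  rw [ord_def, ord_def, map_pow, log_pow, nsmul_eq_mul]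
  ring

@[simp] theorem ord_zpow (x : K) (n : ℤ) : P.ord (x ^ n) = n * P.ord x := by
  rw [ord_def, ord_def, map_zpow₀, log_zpow, smul_eq_mul]
  ring

@[simp] theorem ord_neg (x : K) : P.ord (-x) = P.ord x := by
  rw [ord_def, ord_def, Valuation.map_neg]

/-- The image of the constants has value one. -/
theorem val_algebraMap {c : k} (hc : c ≠ 0) : P.1 (algebraMap k K c) = 1 := by
  apply le_antisymm (P.2.1 c)
  have h := P.2.1 c⁻¹
  have h2 : P.1 (algebraMap k K c) * P.1 (algebraMap k K c⁻¹) = 1 := by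
    rw [← map_mul, ← map_mul, mul_inv_cancel₀ hc, map_one, map_one]
  calc (1 : ℤᵐ⁰) = P.1 (algebraMap k K c) * P.1 (algebraMap k K c⁻¹) := h2.symm
    _ ≤ P.1 (algebraMap k K c) * 1 := by gcongr
    _ = _ := mul_one _

@[simp] theorem ord_algebraMap (c : k) : P.ord (algebraMap k K c) = 0 := by
  by_cases hc : c = 0
  · rw [hc, map_zero, ord_zero]
  · rw [ord_def, val_algebraMap P hc, log_one, neg_zero]

theorem ord_smul {c : k} (hc : c ≠ 0) (x : K) : P.ord (c • x) = P.ord x := by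
  rw [Algebra.smul_def, ord_def, map_mul, val_algebraMap P hc, one_mul, ord_def]

theorem exists_unif : ∃ π : K, P.1 π = exp (-1 : ℤ) := P.2.2 _

theorem exists_val_eq (n : ℤ) : ∃ x : K, P.1 x = exp n := P.2.2 _

theorem ne_zero_of_val {x : K} {n : ℤ} (h : P.1 x = exp n) : x ≠ 0 := by
  rintro rfl
  rw [map_zero] at h
  exact exp_ne_zero h.symm

theorem exists_ord_eq (n : ℤ) : ∃ x : K, x ≠ 0 ∧ P.ord x = n := by
  obtain ⟨x, hx⟩ := exists_val_eq P (-n)
  exact ⟨x, ne_zero_of_val P hx, by rw [ord_eq_of_val P hx, neg_neg]⟩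

/-- `ord (x + y) ≥ min`. -/
theorem min_le_ord_add {x y : K} (hx : x ≠ 0) (hy : y ≠ 0) (hxy : x + y ≠ 0) :
    min (P.ord x) (P.ord y) ≤ P.ord (x + y) := by
  have h := P.1.map_add x y
  rw [le_max_iff, val_eq_exp P hxy, val_eq_exp P hx, val_eq_exp P hy, exp_le_exp, exp_le_exp] at h
  omega

/-- strict triangle inequality. -/
theorem ord_add_eq_of_lt {x y : K} (hx : x ≠ 0) (hy : y ≠ 0) (h : P.ord x < P.ord y) :
    P.ord (x + y) = P.ord x := by
  have h1 : P.1 y < P.1 x := by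
    rw [val_eq_exp P hy, val_eq_exp P hx, exp_lt_exp]
    omega
  rw [ord_def, ord_def, Valuation.map_add_eq_of_lt_left _ h1]

end K660.Ord
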