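import Groth.Agent.FunFld.K660.Ded
import Groth.Agent.FunFld.K660.Ord
import Groth.Agent.MiscA.WCDedekind
import Mathlib.RingTheory.Adjoin.Polynomial.Bivariate
import Mathlib.RingTheory.Valuation.LocalSubring

/-!
# Places of a function field of one variable and height one primes

* `IsGen k K t`: `t` is transcendental over `k` and `K` is finite over `k(t)`;
* for `P : FunFld.Place k K` with `P.1 t ≤ 1`, `P.1` is the valuation of a height one prime of the
  integral closure of `k[t]` in `K`;
* every proper valuation subring of `K` containing `k` is the ring of a unique place.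
-/

set_option autoImplicit false

namespace K660.Places

open WithZero Polynomial IsDedekindDomain FunFld K660.Ord

universe u v

variable {k : Type u} {K : Type v} [Field k] [Field K] [Algebra k K]

section Gen

variable (k K) in
/-- `t` is transcendental over `k` and `K` is finite over `k(t)`. -/
structure IsGen (t : K) : Prop where
  tr : Transcendental k t
  fin : FiniteDimensional (IntermediateField.adjoin k {t}) K

theorem exists_isGen (hK : IsFunctionField k K) : ∃ t : K, IsGen k K t := by
  obtain ⟨⟨x, hx, hf⟩, -⟩ := hK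
  exact ⟨x, hx, hf⟩

theorem IsGen.inv {t : K} (h : IsGen k K t) : IsGen k K t⁻¹ where
  tr := by
    have h1 := h.tr
    intro h2
    apply h1
    rw [← inv_inv t]
    exact h2.inv
  fin := by rw [Groth.Agent.MiscA.WCPlace.adjoin_inv]; exact h.fin

theorem IsGen.ne_zero {t : K} (h : IsGen k K t) : t ≠ 0 := by
  rintro rfl
  exact h.tr isAlgebraic_zero

open scoped IntermediateField.algebraAdjoinAdjoin in
theorem isAlgebraic_swap {t x : K} (ht : Transcendental k t) (hx : Transcendental k x)
    (h : IsAlgebraic (IntermediateField.adjoin k {t}) x) :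
    IsAlgebraic (IntermediateField.adjoin k {x}) t := by
  rw [← IsFractionRing.isAlgebraic_iff (Algebra.adjoin k {t}) (IntermediateField.adjoin k {t}) K] at h
  rw [← IsFractionRing.isAlgebraic_iff (Algebra.adjoin k {x}) (IntermediateField.adjoin k {x}) K]
  simpa using IsAlgebraic.adjoin_singleton ht hx h

/-- In a function field of one variable, `K` is finite over `k(x)` for every transcendental `x`. -/
theorem IsGen.of_transcendental {t : K} (h : IsGen k K t) {x : K} (hx : Transcendental k x) :
    IsGen k K x where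
  tr := hx
  fin := by
    have := h.fin
    have h1 : IsAlgebraic (IntermediateField.adjoin k {t}) x := Algebra.IsAlgebraic.isAlgebraic x
    have h2 : IsAlgebraic (IntermediateField.adjoin k {x}) t := isAlgebraic_swap h.tr hx h1
    let L := IntermediateField.adjoin (IntermediateField.adjoin k {x}) {t}
    have hL : FiniteDimensional (IntermediateField.adjoin k {x}) L :=
      IntermediateField.adjoin.finiteDimensional h2.isIntegral
    have hle : IntermediateField.adjoin k {t} ≤ L.restrictScalars k := by
      rw [IntermediateField.adjoin_simple_le_iff]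
      exact IntermediateField.mem_adjoin_simple_self _ t
    let _ : Algebra (IntermediateField.adjoin k {t}) L :=
      (IntermediateField.inclusion hle).toRingHom.toAlgebra
    have : IsScalarTower (IntermediateField.adjoin k {t}) L K :=
      IsScalarTower.of_algebraMap_eq fun x => rfl
    have h3 : Module.Finite L K :=
      Module.Finite.of_restrictScalars_finite (IntermediateField.adjoin k {t}) L K
    exact Module.Finite.trans L K

theorem isGen_of_transcendental (hK : IsFunctionField k K) {x : K} (hx : Transcendental k x) :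
    IsGen k K x := by
  obtain ⟨t, ht⟩ := exists_isGen hK
  exact ht.of_transcendental hx

theorem transcendental_of_notMem (hK : IsFunctionField k K) {x : K}
    (hx : x ∉ Set.range (algebraMap k K)) : Transcendental k x :=
  fun h => hx (hK.2 x h)

end Gen

section Val

theorem mem_O (P : Place k K) (x : K) : x ∈ P.O ↔ P.1 x ≤ 1 := Iff.rfl

theorem O_ne_top (P : Place k K) : P.O ≠ ⊤ := by
  intro h
  obtain ⟨x, hx⟩ := exists_val_eq P 1
  have h1 : x ∈ P.O := by rw [h]; exact ValuationSubring.mem_top _
  rw [mem_O, hx, ← exp_zero, exp_le_exp] at h1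
  omega

/-- A place is determined by its valuation ring. -/
theorem place_ext {P Q : Place k K} (h : ∀ x, P.1 x ≤ 1 ↔ Q.1 x ≤ 1) : P = Q :=
  Subtype.ext (Groth.Agent.MiscA.WCDedekind.valuation_ext (exists_unif P) (exists_unif Q) h)

theorem place_eq_of_O_eq {P Q : Place k K} (h : P.O = Q.O) : P = Q :=
  place_ext fun x => by rw [← mem_O, ← mem_O, h]

/-- A place is determined by its valuation ring: one inclusion is enough. -/
theorem place_eq_of_le {P Q : Place k K} (h : ∀ x, P.1 x ≤ 1 → Q.1 x ≤ 1) : P = Q := by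
  refine place_ext fun x => ⟨h x, fun hx => ?_⟩
  by_contra hP
  push Not at hP
  -- `x` has a pole at `P`, is integral at `Q`
  obtain ⟨y, hy0, hy⟩ := exists_ord_eq Q (-1)
  rw [one_lt_val_iff] at hP
  have hx0 : x ≠ 0 := by
    rintro rfl
    simp at hP
  have hn : 0 ≤ P.ord (y * x⁻¹ ^ (-(P.ord y)).toNat) := by
    rw [ord_mul P hy0 (pow_ne_zero _ (inv_ne_zero hx0)), ord_pow, ord_inv]
    have h5 : -(P.ord y) ≤ ((-(P.ord y)).toNat : ℤ) := Int.self_le_toNat _
    have h6 : ((-(P.ord y)).toNat : ℤ) ≤ ((-(P.ord y)).toNat : ℤ) * (-(P.ord x)) :=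
      le_mul_of_one_le_right (by positivity) (by omega)
    linarith
  have h0 : y * x⁻¹ ^ (-(P.ord y)).toNat ≠ 0 := mul_ne_zero hy0 (pow_ne_zero _ (inv_ne_zero hx0))
  have h2 := h _ ((val_le_one_iff P h0).2 hn)
  have h3 := h x⁻¹ ((val_le_one_iff P (inv_ne_zero hx0)).2 (by rw [ord_inv]; omega))
  rw [val_le_one_iff Q h0, ord_mul Q hy0 (pow_ne_zero _ (inv_ne_zero hx0)), ord_pow, ord_inv] at h2
  rw [val_le_one_iff Q (inv_ne_zero hx0), ord_inv] at h3
  rw [val_le_one_iff Q hx0] at hx
  have h4 : Q.ord x = 0 := by omega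
  rw [h4, hy] at h2
  omega

theorem val_le_one_of_isIntegral {R : Type*} [CommRing R] [Algebra R K] (P : Place k K)
    (hR : ∀ r : R, P.1 (algebraMap R K r) ≤ 1) {x : K} (hx : IsIntegral R x) : P.1 x ≤ 1 :=
  Groth.Agent.MiscA.WCPlace.mem_of_isIntegral P.O hR hx

theorem adjoin_le_of_le {t : K} {V : ValuationSubring K} (hk : ∀ c : k, algebraMap k K c ∈ V)
    (ht : t ∈ V) (r : Algebra.adjoin k {t}) : algebraMap (Algebra.adjoin k {t}) K r ∈ V := by
  have : Algebra.adjoin k {t} ≤ (⟨V.toSubring.toSubsemiring, hk⟩ : Subalgebra k K) :=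
    Algebra.adjoin_le (by simpa using ht)
  exact this r.2

theorem val_adjoin_le {t : K} (P : Place k K) (ht : P.1 t ≤ 1) (r : Algebra.adjoin k {t}) :
    P.1 (algebraMap (Algebra.adjoin k {t}) K r) ≤ 1 :=
  adjoin_le_of_le (V := P.O) P.2.1 ht r

theorem val_aeval_le {t : K} (P : Place k K) (ht : P.1 t ≤ 1) (q : k[X]) : P.1 (aeval t q) ≤ 1 := by
  refine val_adjoin_le P ht ⟨aeval t q, ?_⟩
  exact Polynomial.aeval_mem_adjoin_singleton k t

end Val

section Prime

variable {t : K}

/-- The integral closure of `k[t]` in `K` is Dedekind (local instance). -/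
theorem instDed [h : Fact (IsGen k K t)] :
    IsDedekindDomain (integralClosure (Algebra.adjoin k {t}) K) :=
  Ded.isDedekindDomain h.1.tr h.1.fin

theorem instFrac [h : Fact (IsGen k K t)] :
    IsFractionRing (integralClosure (Algebra.adjoin k {t}) K) K :=
  Ded.isFractionRing h.1.fin

attribute [local instance] instDed instFrac

variable [h : Fact (IsGen k K t)]

/-- The place of a height one prime of the integral closure of `k[t]`. -/
noncomputable def ofPrime (p : HeightOneSpectrum (integralClosure (Algebra.adjoin k {t}) K)) :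
    Place k K :=
  ⟨p.valuation K, by
    intro c
    exact p.valuation_le_one (algebraMap (Algebra.adjoin k {t})
      (integralClosure (Algebra.adjoin k {t}) K) (algebraMap k _ c)), by
    obtain ⟨π, hπ⟩ := p.valuation_exists_uniformizer K
    intro y
    by_cases hy : y = 0
    · exact ⟨0, by rw [hy, map_zero]⟩
    · refine ⟨π ^ (-(log y)), ?_⟩
      rw [map_zpow₀, hπ, ← exp_zsmul]
      conv_rhs => rw [← exp_log hy]
      congr 1
      simp⟩

@[simp] theorem ofPrime_val (p : HeightOneSpectrum (integralClosure (Algebra.adjoin k {t}) K)) :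
    (ofPrime p).1 = p.valuation K := rfl

theorem ofPrime_injective :
    Function.Injective (ofPrime (k := k) (K := K) (t := t)) := by
  intro p q hpq
  have h1 : p.valuation K = q.valuation K := congrArg Subtype.val hpq
  apply HeightOneSpectrum.ext
  ext a
  rw [← HeightOneSpectrum.valuation_lt_one_iff_mem (K := K), h1,
    HeightOneSpectrum.valuation_lt_one_iff_mem]

theorem exists_prime_of_valuationSubring (V : ValuationSubring K) (hV : V ≠ ⊤)
    (hk : ∀ c : k, algebraMap k K c ∈ V) (ht : t ∈ V) :
    ∃ p : HeightOneSpectrum (integralClosure (Algebra.adjoin k {t}) K), (ofPrime p).O = V := by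
  obtain ⟨p, hp⟩ := Groth.Agent.MiscA.WCDedekind.exists_eq_valuationSubring
    (A := integralClosure (Algebra.adjoin k {t}) K) V hV
    (fun a => Groth.Agent.MiscA.WCPlace.mem_of_isIntegral V (adjoin_le_of_le hk ht)
      (x := (a : K)) a.2)
  exact ⟨p, hp⟩

theorem exists_ofPrime_eq (P : Place k K) (ht : P.1 t ≤ 1) :
    ∃ p : HeightOneSpectrum (integralClosure (Algebra.adjoin k {t}) K), ofPrime p = P := by
  obtain ⟨p, hp⟩ := exists_prime_of_valuationSubring (k := k) (t := t) P.O (O_ne_top P) P.2.1 ht
  exact ⟨p, place_eq_of_O_eq hp⟩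

theorem ofPrime_gen_le (p : HeightOneSpectrum (integralClosure (Algebra.adjoin k {t}) K)) :
    (ofPrime p).1 t ≤ 1 :=
  p.valuation_le_one (algebraMap (Algebra.adjoin k {t})
      (integralClosure (Algebra.adjoin k {t}) K) ⟨t, Algebra.self_mem_adjoin_singleton k t⟩)

/-- Places integral at `t` correspond to height one primes of the integral closure of `k[t]`. -/
noncomputable def primeEquiv : HeightOneSpectrum (integralClosure (Algebra.adjoin k {t}) K) ≃
    {P : Place k K // P.1 t ≤ 1} :=
  Equiv.ofBijective (fun p => ⟨ofPrime p, ofPrime_gen_le p⟩)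
    ⟨fun _ _ hpq => ofPrime_injective (congrArg Subtype.val hpq), fun P => by
      obtain ⟨p, hp⟩ := exists_ofPrime_eq (t := t) P.1 P.2
      exact ⟨p, Subtype.ext hp⟩⟩

theorem finite_pole_aux (f : K) : {P : Place k K | P.1 t ≤ 1 ∧ ¬ P.1 f ≤ 1}.Finite := by
  refine ((HeightOneSpectrum.Support.finite (integralClosure (Algebra.adjoin k {t}) K) f).image
    (fun p => ofPrime p)).subset ?_
  rintro P ⟨hPt, hPf⟩
  obtain ⟨p, rfl⟩ := exists_ofPrime_eq (t := t) P hPt
  refine ⟨p, ?_, rfl⟩
  by_contra hfp
  apply hPf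
  simpa [HeightOneSpectrum.Support] using hfp

end Prime

section Global

theorem le_or_inv_le (P : Place k K) (t : K) : P.1 t ≤ 1 ∨ P.1 t⁻¹ ≤ 1 :=
  P.O.mem_or_inv_mem t

theorem IsGen.finite_pole {t : K} (h : IsGen k K t) (f : K) :
    {P : Place k K | ¬ P.1 f ≤ 1}.Finite := by
  have h1 : Fact (IsGen k K t) := ⟨h⟩
  have h2 : Fact (IsGen k K t⁻¹) := ⟨h.inv⟩
  refine ((finite_pole_aux (t := t) f).union (finite_pole_aux (t := t⁻¹) f)).subset ?_
  intro P hP
  rcases le_or_inv_le P t with ht | ht
  · exact Or.inl ⟨ht, hP⟩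
  · exact Or.inr ⟨ht, hP⟩

theorem finite_pole (hK : IsFunctionField k K) (f : K) :
    {P : Place k K | ¬ P.1 f ≤ 1}.Finite := by
  obtain ⟨t, ht⟩ := exists_isGen hK
  exact ht.finite_pole f

/-- Every proper valuation subring containing the constants is the ring of a place. -/
theorem IsGen.exists_place {t : K} (h : IsGen k K t) (V : ValuationSubring K) (hV : V ≠ ⊤)
    (hk : ∀ c : k, algebraMap k K c ∈ V) : ∃ P : Place k K, P.O = V := by
  rcases V.mem_or_inv_mem t with ht | ht
  · have h1 : Fact (IsGen k K t) := ⟨h⟩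
    obtain ⟨p, hp⟩ := exists_prime_of_valuationSubring (k := k) (t := t) V hV hk ht
    exact ⟨_, hp⟩
  · have h1 : Fact (IsGen k K t⁻¹) := ⟨h.inv⟩
    obtain ⟨p, hp⟩ := exists_prime_of_valuationSubring (k := k) (t := t⁻¹) V hV hk ht
    exact ⟨_, hp⟩

theorem exists_place (hK : IsFunctionField k K) (V : ValuationSubring K) (hV : V ≠ ⊤)
    (hk : ∀ c : k, algebraMap k K c ∈ V) : ∃ P : Place k K, P.O = V := by
  obtain ⟨t, ht⟩ := exists_isGen hK
  exact ht.exists_place V hV hk

theorem existsUnique_place (hK : IsFunctionField k K) (V : ValuationSubring K) (hV : V ≠ ⊤)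
    (hk : ∀ c : k, algebraMap k K c ∈ V) : ∃! P : Place k K, P.O = V := by
  obtain ⟨P, hP⟩ := exists_place hK V hV hk
  exact ⟨P, hP, fun Q hQ => place_eq_of_O_eq (hQ.trans hP.symm)⟩

/-- An element integral at all places is algebraic over `k`. -/
theorem IsGen.isAlgebraic_of_forall_le {t : K} (h : IsGen k K t) {f : K}
    (hf : ∀ P : Place k K, P.1 f ≤ 1) : IsAlgebraic k f := by
  by_contra hfa
  have h1 : f ∉ (integralClosure k K).toSubring := by
    intro h
    exact hfa (IsIntegral.isAlgebraic h)
  have h2 : IsIntegrallyClosedIn (integralClosure k K).toSubring K := by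
    have : IsIntegrallyClosedIn (integralClosure k K) K := inferInstance
    exact this
  obtain ⟨V, hV, hfV⟩ := Subring.exists_le_valuationSubring_of_isIntegrallyClosedIn h1
  obtain ⟨P, hP⟩ := h.exists_place V (by
    rintro rfl
    exact hfV (ValuationSubring.mem_top _)) (fun a => hV ((integralClosure k K).algebraMap_mem a))
  apply hfV
  rw [← hP]
  exact hf P

theorem mem_range_of_forall_le (hK : IsFunctionField k K) {f : K}
    (hf : ∀ P : Place k K, P.1 f ≤ 1) : f ∈ Set.range (algebraMap k K) := by
  obtain ⟨t, ht⟩ := exists_isGen hK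
  exact hK.2 f (ht.isAlgebraic_of_forall_le hf)

/-- A nonconstant element has a pole. -/
theorem exists_pole (hK : IsFunctionField k K) {f : K} (hf : f ∉ Set.range (algebraMap k K)) :
    ∃ P : Place k K, 1 < P.1 f := by
  by_contra hcon
  push Not at hcon
  exact hf (mem_range_of_forall_le hK hcon)

/-- A nonconstant element has a zero. -/
theorem exists_zero (hK : IsFunctionField k K) {f : K} (hf : f ∉ Set.range (algebraMap k K)) :
    ∃ P : Place k K, P.1 f < 1 := by
  have hf0 : f ≠ 0 := by
    rintro rfl
    exact hf ⟨0, map_zero _⟩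
  obtain ⟨P, hP⟩ := exists_pole hK (f := f⁻¹) (by
    rintro ⟨c, hc⟩
    exact hf ⟨c⁻¹, by rw [map_inv₀, hc, inv_inv]⟩)
  refine ⟨P, ?_⟩
  rw [map_inv₀] at hP
  have : P.1 f ≠ 0 := by simpa using hf0
  exact (one_lt_inv₀ (zero_lt_iff.mpr this)).mp hP

theorem nonempty_place (hK : IsFunctionField k K) : Nonempty (Place k K) := by
  obtain ⟨t, ht⟩ := exists_isGen hK
  have : t ∉ Set.range (algebraMap k K) := by
    rintro ⟨c, rfl⟩
    exact ht.tr (isAlgebraic_algebraMap c)
  obtain ⟨P, -⟩ := exists_pole hK this
  exact ⟨P⟩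

end Global

end K660.Places
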