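import Groth.Agent.FunFld.K660.Compare

/-!
# Weil differentials of a function field of one variable

`WD` and `mulW` in terms of `Crv.Om` and `Crv.act`, divisors of Weil differentials, duality.
-/

set_option autoImplicit false

namespace K660.Weil

open WithZero FunFld K660.Ord K660.Places K660.CrvFin K660.Compare
open Groth.Agent.Models.FFLen Groth.Agent.Models.FFRR

universe u v

variable {k : Type u} {K : Type v} [Field k] [Field K] [Algebra k K]

/-- `K` acts on the adele space. -/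
theorem smul_mem_adele (hK : IsFunctionField k K) (x : K) : ∀ a ∈ adele k K, x • a ∈ adele k K := by
  intro a ha
  rw [adele_eq hK] at ha ⊢
  exact (crv hK).Rep.smul_mem x ha

/-- The adele space and the repartitions of the curve of places. -/
noncomputable def adEquiv (hK : IsFunctionField k K) : (crv hK).Rk ≃ₗ[k] adele k K :=
  LinearEquiv.ofEq _ _ (adele_eq hK).symm

@[simp] theorem adEquiv_coe (hK : IsFunctionField k K) (a : (crv hK).Rk) :
    ((adEquiv hK a : adele k K) : Place k K → K) = a := rfl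

@[simp] theorem adEquiv_symm_coe (hK : IsFunctionField k K) (a : adele k K) :
    (((adEquiv hK).symm a : (crv hK).Rk) : Place k K → K) = a := rfl

/-- Transport of linear forms. -/
noncomputable def dualEquiv (hK : IsFunctionField k K) :
    Module.Dual k (adele k K) ≃ₗ[k] Module.Dual k (crv hK).Rk := (adEquiv hK).dualMap

theorem dualEquiv_apply (hK : IsFunctionField k K) (ω : Module.Dual k (adele k K))
    (a : (crv hK).Rk) : dualEquiv hK ω a = ω (adEquiv hK a) := rfl

theorem mem_WD {D : Divisor k K} {ω : Module.Dual k (adele k K)} :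
    ω ∈ WD D ↔ ∀ a : adele k K, (a : Place k K → K) ∈ AD D ⊔ LinearMap.range (diag k K) → ω a = 0 := by
  rw [WD, Submodule.mem_dualAnnihilator]
  rfl

theorem mem_WD_iff (hK : IsFunctionField k K) {D : Divisor k K} {ω : Module.Dual k (adele k K)} :
    ω ∈ WD D ↔ dualEquiv hK ω ∈ (crv hK).Om D := by
  rw [mem_WD, Crv.Om, Submodule.mem_dualAnnihilator]
  constructor
  · intro h a ha
    rw [dualEquiv_apply]
    exact h _ ha
  · intro h a ha
    have := h ((adEquiv hK).symm a) ha
    rwa [dualEquiv_apply, LinearEquiv.apply_symm_apply] at this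

theorem mulW_apply (x : K) (hx : ∀ a ∈ adele k K, x • a ∈ adele k K)
    (ω : Module.Dual k (adele k K)) (a : adele k K) :
    mulW x hx ω a = ω ⟨x • (a : Place k K → K), hx a a.2⟩ := rfl

theorem dualEquiv_mulW (hK : IsFunctionField k K) (x : K) (hx : ∀ a ∈ adele k K, x • a ∈ adele k K)
    (ω : Module.Dual k (adele k K)) :
    dualEquiv hK (mulW x hx ω) = (crv hK).act (dualEquiv hK ω) x := by
  ext a
  rw [dualEquiv_apply, mulW_apply, Crv.act_apply, dualEquiv_apply]
  rfl

theorem mulW_mulW (x y : K) (hx : ∀ a ∈ adele k K, x • a ∈ adele k K)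
    (hy : ∀ a ∈ adele k K, y • a ∈ adele k K) (hxy : ∀ a ∈ adele k K, (x * y) • a ∈ adele k K)
    (ω : Module.Dual k (adele k K)) :
    mulW x hx (mulW y hy ω) = mulW (x * y) hxy ω := by
  ext a
  rw [mulW_apply, mulW_apply, mulW_apply]
  congr 1
  apply Subtype.ext
  change y • x • (a : Place k K → K) = (x * y) • (a : Place k K → K)
  rw [smul_smul, mul_comm]

theorem mulW_one (h : ∀ a ∈ adele k K, (1 : K) • a ∈ adele k K) (ω : Module.Dual k (adele k K)) :
    mulW 1 h ω = ω := by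
  ext a
  rw [mulW_apply]
  congr 1
  apply Subtype.ext
  exact one_smul K (a : Place k K → K)

theorem mulW_congr {x y : K} (h : x = y) (hx : ∀ a ∈ adele k K, x • a ∈ adele k K)
    (hy : ∀ a ∈ adele k K, y • a ∈ adele k K) (ω : Module.Dual k (adele k K)) :
    mulW x hx ω = mulW y hy ω := by
  subst h
  rfl

theorem mulW_zero (h : ∀ a ∈ adele k K, (0 : K) • a ∈ adele k K) (ω : Module.Dual k (adele k K)) :
    mulW 0 h ω = 0 := by
  ext a
  rw [mulW_apply]
  have : (⟨(0 : K) • (a : Place k K → K), h a a.2⟩ : adele k K) = 0 := by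
    apply Subtype.ext
    exact zero_smul K (a : Place k K → K)
  rw [this, map_zero]
  rfl

theorem mulW_inv_mulW {x : K} (hx0 : x ≠ 0) (hx : ∀ a ∈ adele k K, x • a ∈ adele k K)
    (hx' : ∀ a ∈ adele k K, x⁻¹ • a ∈ adele k K) (ω : Module.Dual k (adele k K)) :
    mulW x⁻¹ hx' (mulW x hx ω) = ω := by
  have h1 : ∀ a ∈ adele k K, (1 : K) • a ∈ adele k K := fun a ha => by rwa [one_smul]
  rw [mulW_mulW x⁻¹ x hx' hx (by rw [inv_mul_cancel₀ hx0]; exact h1) ω,
    mulW_congr (inv_mul_cancel₀ hx0) _ h1, mulW_one]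

theorem mulW_ne_zero (hK : IsFunctionField k K) {x : K} (hx0 : x ≠ 0)
    (hx : ∀ a ∈ adele k K, x • a ∈ adele k K)
    {ω : Module.Dual k (adele k K)} (hω : ω ≠ 0) : mulW x hx ω ≠ 0 := by
  intro h
  apply hω
  rw [← mulW_inv_mulW hx0 hx (smul_mem_adele hK x⁻¹) ω, h]
  ext a
  rfl

theorem mulW_mem_WD {C D : Divisor k K} {x : K} (hxD : x ∈ L D)
    (hx : ∀ a ∈ adele k K, x • a ∈ adele k K) {ω : Module.Dual k (adele k K)} (hω : ω ∈ WD C) :
    mulW x hx ω ∈ WD (C - D) := by
  rw [mem_WD] at hω ⊢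
  intro a ha
  obtain ⟨b, hb, c, hc, hbc⟩ := Submodule.mem_sup.1 ha
  obtain ⟨y, rfl⟩ := hc
  refine hω ⟨x • (a : Place k K → K), hx a a.2⟩ ?_
  refine Submodule.mem_sup.2 ⟨x • b, ?_, diag k K (x * y), ⟨_, rfl⟩, ?_⟩
  · intro P
    have h1 : P.1 x ≤ exp (D P) := hxD P
    have h2 : P.1 (b P) ≤ exp ((C - D) P) := hb P
    have h3 : P.1 ((x • b) P) = P.1 x * P.1 (b P) := by simp
    rw [h3]
    refine (mul_le_mul' h1 h2).trans_eq ?_
    rw [← exp_add]
    congr 1
    simp
  · change x • b + diag k K (x * y) = x • (a : Place k K → K)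
    rw [← hbc]
    ext P
    simp [diag, mul_add]

/-- `x ω` vanishes on `A(E) + K` iff `ω` vanishes on `A(E - (x)) + K`. -/
theorem mulW_mem_WD_iff (hK : IsFunctionField k K) {E : Divisor k K} {x : K} (hx0 : x ≠ 0)
    (hx : ∀ a ∈ adele k K, x • a ∈ adele k K) {ω : Module.Dual k (adele k K)} :
    mulW x hx ω ∈ WD E ↔ ω ∈ WD (E - div k x) := by
  constructor
  · intro h
    have h1 : x⁻¹ ∈ L (div k x) := fun P => by
      rw [val_eq_exp_div hK (inv_ne_zero hx0), div_inv hK, Finsupp.neg_apply, neg_neg]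
    have h2 := mulW_mem_WD h1 (smul_mem_adele hK x⁻¹) h
    rwa [mulW_inv_mulW hx0] at h2
  · intro h
    have h1 : x ∈ L (-div k x) := fun P => by
      rw [val_eq_exp_div hK hx0, Finsupp.neg_apply]
    have h2 := mulW_mem_WD h1 hx h
    rwa [sub_neg_eq_add, sub_add_cancel] at h2

theorem isDivOf_mulW (hK : IsFunctionField k K) {x : K} (hx0 : x ≠ 0)
    (hx : ∀ a ∈ adele k K, x • a ∈ adele k K) {ω : Module.Dual k (adele k K)} {C : Divisor k K}
    (hω : IsDivOf ω C) : IsDivOf (mulW x hx ω) (C + div k x) := by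
  intro E
  rw [mulW_mem_WD_iff hK hx0, hω, sub_le_iff_le_add]

theorem mulW_injective (hK : IsFunctionField k K) {ω : Module.Dual k (adele k K)} (hω : ω ≠ 0)
    (x y : K) (hx : ∀ a ∈ adele k K, x • a ∈ adele k K) (hy : ∀ a ∈ adele k K, y • a ∈ adele k K)
    (h : mulW x hx ω = mulW y hy ω) : x = y := by
  have h1 := congrArg (dualEquiv hK) h
  rw [dualEquiv_mulW, dualEquiv_mulW] at h1
  refine Crv.act_injective (fun h0 => hω ?_) h1
  exact (dualEquiv hK).map_eq_zero_iff.1 h0

theorem exists_mulW_eq (hK : IsFunctionField k K) {D₁ D₂ : Divisor k K}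
    {ω₁ ω₂ : Module.Dual k (adele k K)} (h₁ : ω₁ ∈ WD D₁) (h0 : ω₁ ≠ 0) (h₂ : ω₂ ∈ WD D₂) :
    ∃ x : K, ∀ hx : ∀ a ∈ adele k K, x • a ∈ adele k K, mulW x hx ω₁ = ω₂ := by
  have := nonempty_place hK
  rw [mem_WD_iff hK] at h₁ h₂
  obtain ⟨f, hf⟩ := (crv_fin hK).exists_act_eq h₁ h₂
    (fun h => h0 ((dualEquiv hK).map_eq_zero_iff.1 h))
  refine ⟨f, fun hx => ?_⟩
  apply (dualEquiv hK).injective
  rw [dualEquiv_mulW, hf]

/-- `W(D)` and `Om D`. -/
noncomputable def WDEquiv (hK : IsFunctionField k K) (D : Divisor k K) :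
    WD D ≃ₗ[k] (crv hK).Om D :=
  LinearEquiv.ofSubmodules (dualEquiv hK) _ _ (by
    ext ω
    rw [Submodule.mem_map]
    constructor
    · rintro ⟨ω, hω, rfl⟩
      exact (mem_WD_iff hK).1 hω
    · intro hω
      refine ⟨(dualEquiv hK).symm ω, ?_, ?_⟩
      · rw [mem_WD_iff hK]
        rwa [LinearEquiv.apply_symm_apply]
      · exact LinearEquiv.apply_symm_apply _ _)

theorem finite_WD (hK : IsFunctionField k K) (D : Divisor k K) : FiniteDimensional k (WD D) := by
  have := (crv_fin hK).finite_Om D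
  exact Module.Finite.equiv (WDEquiv hK D).symm

theorem finrank_WD (hK : IsFunctionField k K) (D : Divisor k K) :
    Module.finrank k (WD D) = ispec hK D := by
  rw [(WDEquiv hK D).finrank_eq]
  exact (crv_fin hK).finrank_Om D

theorem ne_zero_of_isDivOf (hK : IsFunctionField k K) {ω : Module.Dual k (adele k K)}
    {C : Divisor k K} (hω : IsDivOf ω C) : ω ≠ 0 := by
  rintro rfl
  obtain ⟨P⟩ := nonempty_place hK
  have h := (hω (C + Finsupp.single P 1)).1 (Submodule.zero_mem _)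
  have h1 := h P
  simp at h1

theorem isDivOf_unique {ω : Module.Dual k (adele k K)} {C C' : Divisor k K} (h : IsDivOf ω C)
    (h' : IsDivOf ω C') : C = C' :=
  le_antisymm ((h' C).1 ((h C).2 le_rfl)) ((h C').1 ((h' C').2 le_rfl))

theorem mem_WD_sup (hK : IsFunctionField k K) {D D' : Divisor k K}
    {ω : Module.Dual k (adele k K)} (h : ω ∈ WD D) (h' : ω ∈ WD D') : ω ∈ WD (D ⊔ D') := by
  rw [mem_WD_iff hK] at h h' ⊢
  exact Crv.mem_Om_sup h h'

theorem WD_anti {D D' : Divisor k K} (h : D ≤ D') : WD D' ≤ WD D := by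
  intro ω hω
  rw [mem_WD] at hω ⊢
  intro a ha
  have h1 : AD D ≤ AD D' := fun b hb P => (hb P).trans (exp_le_exp.2 (h P))
  exact hω a ((sup_le_sup_right h1 (LinearMap.range (diag k K))) ha)

/-- A nonzero Weil differential has a divisor. -/
theorem exists_isDivOf (hK : IsFunctionField k K) {ω : Module.Dual k (adele k K)} {D₀ : Divisor k K}
    (hω : ω ∈ WD D₀) (h0 : ω ≠ 0) : ∃ C : Divisor k K, IsDivOf ω C := by
  classical
  obtain ⟨c, hc0, hc⟩ := exists_bound hK
  have hbound : ∀ D, ω ∈ WD D → D.deg < c := by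
    intro D hD
    by_contra h
    push Not at h
    have h1 := hc D h
    have := finite_WD hK D
    rw [← finrank_WD hK, Submodule.finrank_eq_zero] at h1
    rw [h1] at hD
    exact h0 ((Submodule.mem_bot k).mp hD)
  -- maximal degree
  have hex : ∃ W, ω ∈ WD W ∧ ∀ D, ω ∈ WD D → D.deg ≤ W.deg := by
    have hne : (Set.range fun D : {D : Divisor k K // ω ∈ WD D} => (c - D.1.deg).toNat).Nonempty :=
      ⟨_, ⟨D₀, hω⟩, rfl⟩
    obtain ⟨⟨W, hW⟩, hWm⟩ := Nat.sInf_mem hne
    simp only at hWm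
    refine ⟨W, hW, fun D hD => ?_⟩
    have h7 := Nat.sInf_le (s := Set.range fun D : {D : Divisor k K // ω ∈ WD D} =>
      (c - D.1.deg).toNat) ⟨⟨D, hD⟩, rfl⟩
    rw [← hWm] at h7
    have := hbound W hW
    have := hbound D hD
    simp only at h7
    omega
  obtain ⟨W, hW, hWmax⟩ := hex
  refine ⟨W, fun D => ⟨fun hD => ?_, fun hD => WD_anti hD hW⟩⟩
  have h1 := hWmax _ (mem_WD_sup hK hW hD)
  by_contra hnle
  have h2 : W ⊔ D - W ≠ 0 := by
    intro h
    rw [sub_eq_zero] at h
    exact hnle (h ▸ le_sup_right)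
  have h3 := deg_pos hK (sub_nonneg.mpr (le_sup_left : W ≤ W ⊔ D)) h2
  rw [deg_sub] at h3
  omega

/-- Canonical divisors exist. -/
theorem exists_isCanonical (hK : IsFunctionField k K) : ∃ C : Divisor k K, IsCanonical k K C := by
  obtain ⟨P⟩ := nonempty_place hK
  obtain ⟨D, hD⟩ : ∃ D : Divisor k K, 0 < ispec hK D := by
    refine ⟨Finsupp.single P (-2), ?_⟩
    have h1 := ell_eq_genus hK (Finsupp.single P (-2))
    rw [deg_single] at h1
    have h2 := place_deg_pos hK P
    omega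
  obtain ⟨ω, hωD, hω0⟩ : ∃ ω ∈ WD D, ω ≠ 0 := by
    have := finite_WD hK D
    have h1 : 0 < Module.finrank k (WD D) := by rwa [finrank_WD hK]
    have h2 : WD D ≠ ⊥ := by
      intro h
      rw [h, finrank_bot] at h1
      omega
    exact (Submodule.ne_bot_iff _).mp h2
  obtain ⟨C, hC⟩ := exists_isDivOf hK hωD hω0
  exact ⟨C, ω, hω0, hC⟩

/-- Multiplication by a Weil differential with divisor `C` is a bijection `L(C - D) → W(D)`. -/
theorem existsUnique_mulW (hK : IsFunctionField k K)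
    (h : ∀ (x : K), ∀ a ∈ adele k K, x • a ∈ adele k K)
    {ω : Module.Dual k (adele k K)} {C : Divisor k K} (hω : IsDivOf ω C)
    {D : Divisor k K} {ω' : Module.Dual k (adele k K)} (hω' : ω' ∈ WD D) :
    ∃! x : K, x ∈ L (C - D) ∧ mulW x (h x) ω = ω' := by
  have h0 := ne_zero_of_isDivOf hK hω
  obtain ⟨x, hx⟩ := exists_mulW_eq hK ((hω C).2 le_rfl) h0 hω'
  refine ⟨x, ⟨?_, hx _⟩, ?_⟩
  · by_cases hx0 : x = 0
    · rw [hx0]
      exact Submodule.zero_mem _
    · rw [mem_L_iff hK hx0]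
      have h1 := isDivOf_mulW hK hx0 (h x) hω
      rw [hx] at h1
      have h2 := (h1 D).1 hω'
      rw [← sub_nonneg] at h2
      have h3 : C - D + div k x = C + div k x - D := by abel
      rw [h3]
      exact h2
  · rintro y ⟨-, hy⟩
    exact mulW_injective hK h0 _ _ (h y) (h x) (hy.trans (hx _).symm)

/-- `x ↦ x ω` as a linear map. -/
noncomputable def mulWLin (hK : IsFunctionField k K) (ω : Module.Dual k (adele k K)) :
    K →ₗ[k] Module.Dual k (adele k K) :=
  (dualEquiv hK).symm.toLinearMap ∘ₗ (crv hK).act (dualEquiv hK ω)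

theorem mulWLin_apply (hK : IsFunctionField k K) (ω : Module.Dual k (adele k K)) (x : K)
    (hx : ∀ a ∈ adele k K, x • a ∈ adele k K) : mulWLin hK ω x = mulW x hx ω := by
  apply (dualEquiv hK).injective
  rw [dualEquiv_mulW]
  exact LinearEquiv.apply_symm_apply _ _

theorem ispec_eq_ell (hK : IsFunctionField k K) {C : Divisor k K} (hC : IsCanonical k K C)
    (D : Divisor k K) : ispec hK D = ell (C - D) := by
  obtain ⟨ω, h0, hω⟩ := hC
  have hinj : Function.Injective (mulWLin hK ω) := by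
    intro x y hxy
    rw [mulWLin_apply hK ω x (smul_mem_adele hK x), mulWLin_apply hK ω y (smul_mem_adele hK y)] at hxy
    exact mulW_injective hK h0 x y _ _ hxy
  have hmap : (L (C - D)).map (mulWLin hK ω) = WD D := by
    ext ω'
    rw [Submodule.mem_map]
    constructor
    · rintro ⟨x, hx, rfl⟩
      rw [mulWLin_apply hK ω x (smul_mem_adele hK x)]
      have := mulW_mem_WD hx (smul_mem_adele hK x) ((hω C).2 le_rfl)
      rwa [sub_sub_cancel] at this
    · intro hω'
      obtain ⟨x, ⟨hx, hx'⟩, -⟩ := existsUnique_mulW hK (smul_mem_adele hK) hω hω'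
      exact ⟨x, hx, by rw [mulWLin_apply hK ω x (smul_mem_adele hK x), hx']⟩
  rw [← finrank_WD hK, ← hmap]
  exact (Submodule.equivMapOfInjective _ hinj _).symm.finrank_eq

/-- The Riemann-Roch theorem. -/
theorem riemann_roch (hK : IsFunctionField k K) {C : Divisor k K} (hC : IsCanonical k K C)
    (D : Divisor k K) :
    (ell D : ℤ) = D.deg + 1 - genus k K + ell (C - D) := by
  rw [← ispec_eq_ell hK hC]
  exact ell_eq_genus hK D

theorem deg_ell_of_isCanonical (hK : IsFunctionField k K) {C : Divisor k K}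
    (hC : IsCanonical k K C) :
    ell C = genus k K ∧ C.deg = 2 * genus k K - 2 := by
  have h1 := riemann_roch hK hC 0
  have h2 := riemann_roch hK hC C
  rw [sub_zero, ell_zero hK, deg_zero] at h1
  rw [sub_self, ell_zero hK] at h2
  push_cast at h1 h2
  omega

/-- A divisor of degree zero with a nonzero section is principal. -/
theorem exists_eq_neg_div (hK : IsFunctionField k K) {D : Divisor k K} (hD : D.deg = 0)
    (h : ell D ≠ 0) : ∃ x : K, x ≠ 0 ∧ D = -div k x := by
  have h2 : L D ≠ ⊥ := by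
    intro h'
    apply h
    unfold ell
    rw [h', finrank_bot]
  obtain ⟨x, hx, hx0⟩ := (Submodule.ne_bot_iff _).mp h2
  refine ⟨x, hx0, ?_⟩
  rw [mem_L_iff hK hx0] at hx
  by_contra hne
  have h3 : D + div k x ≠ 0 := fun h' => hne (eq_neg_of_add_eq_zero_left h')
  have h4 := deg_pos hK hx h3
  rw [deg_add, deg_div hK, hD] at h4
  omega

theorem isCanonical_add_div (hK : IsFunctionField k K) {C : Divisor k K}
    (hC : IsCanonical k K C) {x : K} (hx : x ≠ 0) : IsCanonical k K (C + div k x) := by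
  obtain ⟨ω, h0, hω⟩ := hC
  exact ⟨mulW x (smul_mem_adele hK x) ω, mulW_ne_zero hK hx _ h0,
    isDivOf_mulW hK hx (smul_mem_adele hK x) hω⟩

theorem isCanonical_iff (hK : IsFunctionField k K) (C : Divisor k K) :
    IsCanonical k K C ↔ (ell C = genus k K ∧ C.deg = 2 * genus k K - 2) := by
  refine ⟨deg_ell_of_isCanonical hK, ?_⟩
  rintro ⟨h1, h2⟩
  obtain ⟨W, hW⟩ := exists_isCanonical hK
  obtain ⟨h3, h4⟩ := deg_ell_of_isCanonical hK hW
  have h5 := riemann_roch hK hW C
  obtain ⟨x, hx0, hx⟩ := exists_eq_neg_div hK (D := W - C) (by rw [deg_sub]; omega) (by omega)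
  have h6 : C = W + div k x := by
    rw [sub_eq_iff_eq_add] at hx
    rw [hx]
    abel
  rw [h6]
  exact isCanonical_add_div hK hW hx0

theorem ell_eq_of_deg_ge (hK : IsFunctionField k K) {D : Divisor k K}
    (h : 2 * (genus k K : ℤ) - 1 ≤ D.deg) : (ell D : ℤ) = D.deg + 1 - genus k K := by
  obtain ⟨W, hW⟩ := exists_isCanonical hK
  obtain ⟨h3, h4⟩ := deg_ell_of_isCanonical hK hW
  have h5 := riemann_roch hK hW D
  rw [ell_eq_zero_of_deg_neg hK (D := W - D) (by rw [deg_sub]; omega)] at h5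
  push_cast at h5
  omega

theorem isCanonical_sub (hK : IsFunctionField k K) {C₁ C₂ : Divisor k K}
    (h₁ : IsCanonical k K C₁) (h₂ : IsCanonical k K C₂) : ∃ x : K, x ≠ 0 ∧ C₂ = C₁ + div k x := by
  obtain ⟨ω₁, h10, hω₁⟩ := h₁
  obtain ⟨ω₂, h20, hω₂⟩ := h₂
  obtain ⟨x, hx⟩ := exists_mulW_eq hK ((hω₁ C₁).2 le_rfl) h10 ((hω₂ C₂).2 le_rfl)
  have hx0 : x ≠ 0 := by
    rintro rfl
    apply h20
    rw [← hx (smul_mem_adele hK 0), mulW_zero]
  refine ⟨x, hx0, ?_⟩
  have h3 := isDivOf_mulW hK hx0 (smul_mem_adele hK x) hω₁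
  rw [hx] at h3
  exact isDivOf_unique hω₂ h3

end K660.Weil
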