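import Groth.Agent.FunFld.K660.Places
import Groth.Agent.Fdesc.GeomRed
import Mathlib.RingTheory.Etale.Kaehler
import Mathlib.RingTheory.Etale.Field
import Mathlib.RingTheory.Kaehler.Polynomial

/-!
# Separating elements of geometric function fields

* `isGeometricallyReduced`: a geometric extension is geometrically reduced;
* `exists_isSeparable`: a geometric function field of one variable has a separating element;
* `finrank_kaehler`: `dim Ω_{K/k} = 1` if there is a separating element;
* `isSeparable_iff_D_ne_zero`.
-/

set_option autoImplicit false

namespace K660.Sep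

open FunFld K660.Places TensorProduct

universe u v

variable {k : Type u} {K : Type v} [Field k] [Field K] [Algebra k K]

/-- A geometric extension is geometrically reduced. -/
theorem isGeometricallyReduced (hg : IsGeometric k K) : Algebra.IsGeometricallyReduced k K := by
  rw [Algebra.isGeometricallyReduced_field_iff]
  have h1 : IsReduced (K ⊗[k] AlgebraicClosure k) := by
    apply IsReduced.tensorProduct_of_flat_of_forall_fg
    intro B hB
    have hint : Algebra.IsIntegral k B := ⟨fun x => by
      have h : IsIntegral k (x : AlgebraicClosure k) := Algebra.IsIntegral.isIntegral _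
      exact (isIntegral_algHom_iff B.val Subtype.val_injective).1 h⟩
    have hfin : Module.Finite k B := by
      have : Algebra.FiniteType k B := B.fg_iff_finiteType.1 hB
      exact Algebra.IsIntegral.finite
    have hf : IsField B := isField_of_isIntegral_of_isField' (R := k) (Field.toIsField k)
    let C : IntermediateField k (AlgebraicClosure k) := B.toIntermediateField' hf
    have hC : FiniteDimensional k C := hfin
    have h2 := hg C hC
    let e : (K ⊗[k] B) ≃ₐ[k] C ⊗[k] K := Algebra.TensorProduct.comm k K C
    have h3 : IsField (K ⊗[k] B) := MulEquiv.isField h2 e.toMulEquiv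
    have : IsDomain (K ⊗[k] B) := h3.isDomain
    infer_instance
  exact isReduced_of_injective _ (Algebra.TensorProduct.comm k (AlgebraicClosure k) K).injective

theorem essFiniteType {t : K} (h : IsGen k K t) : Algebra.EssFiniteType k K := by
  have := h.fin
  have h1 : Algebra.EssFiniteType k (IntermediateField.adjoin k {t}) :=
    IntermediateField.essFiniteType_iff.2
      (IntermediateField.fg_adjoin_of_finite (Set.finite_singleton t))
  exact Algebra.EssFiniteType.comp k (IntermediateField.adjoin k {t}) K

theorem trdeg_eq_one {t : K} (h : IsGen k K t) : Algebra.trdeg k K = 1 := by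
  have := h.fin
  have hind : AlgebraicIndependent k (fun _ : Unit => t) := by
    rw [algebraicIndependent_unique_type_iff]
    exact h.tr
  have halg : Algebra.IsAlgebraic (Algebra.adjoin k (Set.range fun _ : Unit => t)) K := by
    rw [Set.range_const, ← IntermediateField.isAlgebraic_adjoin_iff_top]
    infer_instance
  have hb : IsTranscendenceBasis k (fun _ : Unit => t) :=
    isTranscendenceBasis_iff_algebraicIndependent_isAlgebraic.2 ⟨hind, halg⟩
  have := hb.lift_cardinalMk_eq_trdeg
  simpa using this.symm

/-- A geometrically reduced function field of one variable has a separating element. -/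
theorem exists_isSeparable_of_isGen {t : K} (ht : IsGen k K t) [Algebra.IsGeometricallyReduced k K] :
    ∃ s : K, IsGen k K s ∧ Algebra.IsSeparable (IntermediateField.adjoin k {s}) K := by
  have := essFiniteType ht
  obtain ⟨s, hs, hsep⟩ :=
    Groth.Agent.Fdesc.GeomRed.exists_isTranscendenceBasis_and_isSeparable_of_isGeometricallyReduced k K
  have h1 := hs.cardinalMk_eq_trdeg
  rw [trdeg_eq_one ht] at h1
  have h2 : s.card = 1 := by simpa using h1
  obtain ⟨x, rfl⟩ := Finset.card_eq_one.1 h2
  rw [Finset.coe_singleton] at hsep
  exact ⟨x, ht.of_transcendental (hs.1.transcendental ⟨x, by simp⟩), hsep⟩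

/-- A geometric function field of one variable has a separating element. -/
theorem exists_isSeparable (hK : IsFunctionField k K) (hg : IsGeometric k K) :
    ∃ t : K, IsGen k K t ∧ Algebra.IsSeparable (IntermediateField.adjoin k {t}) K := by
  obtain ⟨t, ht⟩ := exists_isGen hK
  have := isGeometricallyReduced hg
  exact exists_isSeparable_of_isGen ht

open scoped IntermediateField.algebraAdjoinAdjoin in
/-- `dim Ω_{K/k} = 1` if `K/k(t)` is separable. -/
theorem finrank_kaehler {t : K} (ht : IsGen k K t)
    (hsep : Algebra.IsSeparable (IntermediateField.adjoin k {t}) K) :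
    Module.finrank K (Ω[K⁄k]) = 1 := by
  have := ht.fin
  let A := Algebra.adjoin k {t}
  let F := IntermediateField.adjoin k {t}
  let e : Polynomial k ≃ₐ[k] A := Polynomial.algEquivOfTranscendental k t ht.tr
  have h1 : Algebra.FormallyEtale A F := Algebra.FormallyEtale.of_isLocalization (nonZeroDivisors A)
  have h2 : Algebra.FormallyEtale F K := Algebra.FormallyEtale.of_isSeparable F K
  have h3 : Algebra.FormallyEtale A K := Algebra.FormallyEtale.comp A F K
  let _ : Algebra (Polynomial k) A := (e : Polynomial k →+* A).toAlgebra
  let _ : Algebra (Polynomial k) K := ((algebraMap A K).comp (e : Polynomial k →+* A)).toAlgebra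
  have h4 : IsScalarTower (Polynomial k) A K := IsScalarTower.of_algebraMap_eq fun _ => rfl
  have h5 : IsScalarTower k (Polynomial k) K := IsScalarTower.of_algebraMap_eq fun c => by
    change algebraMap k K c = algebraMap A K (e (algebraMap k (Polynomial k) c))
    rw [e.commutes]
    rfl
  let e' : Polynomial k ≃ₐ[Polynomial k] A := AlgEquiv.ofBijective (Algebra.ofId (Polynomial k) A)
    e.bijective
  have h6 : Algebra.FormallyEtale (Polynomial k) A := Algebra.FormallyEtale.of_equiv e'
  have h7 : Algebra.FormallyEtale (Polynomial k) K := Algebra.FormallyEtale.comp (Polynomial k) A K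
  have e1 : K ⊗[Polynomial k] (Ω[Polynomial k⁄k]) ≃ₗ[K] Ω[K⁄k] :=
    KaehlerDifferential.tensorKaehlerEquivOfFormallyEtale k (Polynomial k) K
  have e2 : K ⊗[Polynomial k] (Ω[Polynomial k⁄k]) ≃ₗ[K] K ⊗[Polynomial k] (Polynomial k) :=
    LinearEquiv.baseChange (Polynomial k) K _ _ (KaehlerDifferential.polynomialEquiv k)
  have e3 : K ⊗[Polynomial k] (Polynomial k) ≃ₗ[K] K := AlgebraTensorModule.rid _ _ _
  rw [← ((e2.symm.trans e1)).finrank_eq, e3.finrank_eq, Module.finrank_self]

theorem finite_kaehler {t : K} (ht : IsGen k K t) : Module.Finite K (Ω[K⁄k]) := by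
  have := essFiniteType ht
  infer_instance

end K660.Sep
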