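import Groth.Agent.FunFld.K660.Places
import Groth.Agent.Models.FFRR
import Groth.Agent.MiscA.WCPlaceCrv

/-!
# The curve of places of a function field of one variable

`crv hK : Crv k K (Place k K)` for `hK : IsFunctionField k K`, and its finiteness `crv_fin hK : (crv hK).Fin`
(no separability).
-/

set_option autoImplicit false

namespace K660.CrvFin

open WithZero Polynomial IsDedekindDomain FunFld K660.Ord K660.Places
open Groth.Agent.Models.FFLen Groth.Agent.Models.FFRR
open Groth.Agent.MiscA.WCPlaceCrv (rlen_ne_top_of_le_sup linearIndependent_adjoin spanMap spanMap_apply mem_range_spanMap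
  aeval_ne_zero aeval_inv_reflect)

universe u v

variable {k : Type u} {K : Type v} [Field k] [Field K] [Algebra k K]

/-- The curve of places (`k` need not be algebraically closed in `K`). -/
noncomputable def crvG (h : ∃ t : K, IsGen k K t) : Crv k K (Place k K) where
  v P := P.1
  v_const P c := P.2.1 c
  exists_unif P := exists_unif P
  finite_pole f := by
    obtain ⟨t, ht⟩ := h
    exact ht.finite_pole f

@[simp] theorem crvG_v (h : ∃ t : K, IsGen k K t) (P : Place k K) : (crvG h).v P = P.1 := rfl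

/-- The curve of places. -/
noncomputable abbrev crv (hK : IsFunctionField k K) : Crv k K (Place k K) := crvG (exists_isGen hK)

attribute [local instance] instDed instFrac

section Gen

open scoped IntermediateField.algebraAdjoinAdjoin in
/-- Generators of the integral closure of `k[t]`. -/
theorem exists_gen {t : K} (h : IsGen k K t) :
    ∃ s : Finset K, (∀ e ∈ s, ∀ P : Place k K, P.1 t ≤ 1 → P.1 e ≤ 1) ∧
      ∀ a : K, IsIntegral (Algebra.adjoin k {t}) a →
        ∃ p : K → k[X], a = ∑ e ∈ s, aeval t (p e) * e := by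
  have h1 : Module.Finite (Algebra.adjoin k {t}) (integralClosure (Algebra.adjoin k {t}) K) :=
    Ded.finite_integralClosure h.tr h.fin
  have h2 : (Subalgebra.toSubmodule (integralClosure (Algebra.adjoin k {t}) K)).FG :=
    Module.Finite.iff_fg.1 h1
  obtain ⟨s, hs⟩ := h2
  refine ⟨s, ?_, ?_⟩
  · intro e he P htP
    have h3 : e ∈ Subalgebra.toSubmodule (integralClosure (Algebra.adjoin k {t}) K) := by
      rw [← hs]
      exact Submodule.subset_span he
    exact val_le_one_of_isIntegral P (val_adjoin_le P htP) h3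
  · intro a ha
    have h3 : a ∈ Submodule.span (Algebra.adjoin k {t}) (s : Set K) := by
      rw [hs]
      exact ha
    obtain ⟨f, -, hf⟩ := Submodule.mem_span_finset.1 h3
    have hp : ∀ i, ∃ p : k[X], aeval t p = (f i : K) := by
      intro i
      have h1 : (f i : K) ∈ (aeval t : k[X] →ₐ[k] K).range := by
        rw [← Algebra.adjoin_singleton_eq_range_aeval]
        exact (f i).2
      exact h1
    choose p hp using hp
    refine ⟨p, ?_⟩
    rw [← hf]
    refine Finset.sum_congr rfl fun i _ => ?_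
    rw [hp, Algebra.smul_def]
    rfl

open scoped IntermediateField.algebraAdjoinAdjoin in
/-- Every element of `K` has a denominator in `k[t]`. -/
theorem exists_gen_denom {t : K} (h : IsGen k K t) {s : Finset K}
    (hs : ∀ a : K, IsIntegral (Algebra.adjoin k {t}) a →
        ∃ p : K → k[X], a = ∑ e ∈ s, aeval t (p e) * e) (x : K) :
    ∃ (b : k[X]) (p : K → k[X]), b ≠ 0 ∧ aeval t b * x = ∑ e ∈ s, aeval t (p e) * e := by
  have := h.fin
  have h1 : Algebra.IsAlgebraic (IntermediateField.adjoin k {t}) K := inferInstance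
  have h2 : IsAlgebraic (Algebra.adjoin k {t}) x := by
    rw [IsFractionRing.isAlgebraic_iff (Algebra.adjoin k {t}) (IntermediateField.adjoin k {t}) K]
    exact h1.isAlgebraic x
  obtain ⟨y, hy, hyx⟩ := h2.exists_integral_multiple
  have h3 : (y : K) ∈ (aeval t : k[X] →ₐ[k] K).range := by
    rw [← Algebra.adjoin_singleton_eq_range_aeval]
    exact y.2
  obtain ⟨b, hb⟩ := h3
  obtain ⟨p, hp⟩ := hs _ hyx
  refine ⟨b, p, ?_, ?_⟩
  · rintro rfl
    apply hy
    apply Subtype.ext
    rw [← hb]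
    exact map_zero _
  · rw [← hp, Algebra.smul_def]
    congr 1

end Gen

section Residue

theorem exists_aeval_val_lt {t : K} (h : IsGen k K t) (P : Place k K) (ht : P.1 t ≤ 1) :
    ∃ q : k[X], q.Monic ∧ P.1 (aeval t q) < 1 := by
  by_contra hcon
  push Not at hcon
  have h1 : ∀ q : k[X], q ≠ 0 → 1 ≤ P.1 (aeval t q) := by
    intro q hq
    have h2 := hcon (q * C q.leadingCoeff⁻¹) (monic_mul_leadingCoeff_inv hq)
    rw [map_mul, map_mul] at h2
    refine h2.trans ?_
    conv_rhs => rw [← mul_one (P.1 (aeval t q))]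
    gcongr
    rw [aeval_C]
    exact P.2.1 _
  apply O_ne_top P
  rw [eq_top_iff]
  intro x _
  have := h.fin
  have hx : IsIntegral (IntermediateField.adjoin k {t}) x := Algebra.IsIntegral.isIntegral x
  refine val_le_one_of_isIntegral P ?_ hx
  intro c
  obtain ⟨r, s, hrs⟩ := (IntermediateField.mem_adjoin_simple_iff k (c : K)).1 c.2
  change P.1 (c : K) ≤ 1
  rw [hrs]
  by_cases hs : s = 0
  · rw [hs, map_zero, div_zero, map_zero]
    exact zero_le
  · rw [map_div₀]
    exact div_le_one_of_le₀ ((val_aeval_le P ht r).trans (h1 s hs)) zero_le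

/-- Elements of the integral closure of `k[t]` approximate elements of the valuation ring modulo the maximal
ideal. -/
theorem exists_integral_approx {t : K} (h : IsGen k K t) (P : Place k K) (ht : P.1 t ≤ 1) {f : K}
    (hf : P.1 f ≤ 1) :
    ∃ a : K, IsIntegral (Algebra.adjoin k {t}) a ∧ P.1 (f - a) < 1 := by
  have : Fact (IsGen k K t) := ⟨h⟩
  obtain ⟨p, rfl⟩ := exists_ofPrime_eq (t := t) P ht
  obtain ⟨a, ha⟩ := p.exists_valuation_sub_lt_of_integer hf 1
  refine ⟨a, a.2, ?_⟩
  rw [Valuation.map_sub_swap]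
  simpa using ha

theorem exists_res_gen {t : K} (h : IsGen k K t) (P : Place k K) (ht : P.1 t ≤ 1) :
    ∃ W : Submodule k K, Module.Finite k W ∧
      ∀ f, P.1 f ≤ 1 → ∃ w ∈ W, P.1 (f - w) < 1 := by
  obtain ⟨s, hs, hs'⟩ := exists_gen h
  obtain ⟨r, hr, hrP⟩ := exists_aeval_val_lt h P ht
  refine ⟨LinearMap.range (spanMap k t s r.natDegree), inferInstance, ?_⟩
  intro f hf
  obtain ⟨a, ha, haf⟩ := exists_integral_approx h P ht hf
  obtain ⟨p, hp⟩ := hs' a ha
  refine ⟨∑ e ∈ s, aeval t (p e %ₘ r) * e, mem_range_spanMap t s _ _ ?_, ?_⟩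
  · intro e
    rw [← Polynomial.degree_eq_natDegree hr.ne_zero]
    exact Polynomial.degree_modByMonic_lt _ hr
  · have h1 : a - ∑ e ∈ s, aeval t (p e %ₘ r) * e =
        aeval t r * ∑ e ∈ s, aeval t (p e /ₘ r) * e := by
      rw [hp, ← Finset.sum_sub_distrib, Finset.mul_sum]
      refine Finset.sum_congr rfl fun e _ => ?_
      have h2 := congrArg (aeval t) (Polynomial.modByMonic_add_div (p e) r)
      rw [map_add, map_mul] at h2
      rw [← h2]
      ring
    have h3 : f - ∑ e ∈ s, aeval t (p e %ₘ r) * e =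
        (f - a) + aeval t r * ∑ e ∈ s, aeval t (p e /ₘ r) * e := by
      rw [← h1]
      ring
    rw [h3]
    refine (P.1.map_add _ _).trans_lt (max_lt haf ?_)
    rw [map_mul]
    refine mul_lt_one_of_lt_of_le hrP ?_
    rw [← mem_O]
    exact sum_mem fun e he => P.O.mul_mem _ _ (val_aeval_le P ht _) (hs e he P ht)

theorem exists_res_gen' {t : K} (h : IsGen k K t) (P : Place k K) :
    ∃ W : Submodule k K, Module.Finite k W ∧
      ∀ f, P.1 f ≤ 1 → ∃ w ∈ W, P.1 (f - w) < 1 := by
  rcases le_or_inv_le P t with htP | htP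
  · exact exists_res_gen h P htP
  · exact exists_res_gen h.inv P htP

end Residue

section Approx

/-- Strong approximation for places. -/
theorem exists_approx_places {t : K} (h : IsGen k K t) (α : Place k K → K)
    (hα : {P : Place k K | ¬ P.1 (α P) ≤ 1}.Finite) :
    ∃ f : K, ∀ P : Place k K, P.1 t ≤ 1 → P.1 (α P - f) ≤ 1 := by
  classical
  have : Fact (IsGen k K t) := ⟨h⟩
  have hfin : {p : HeightOneSpectrum (integralClosure (Algebra.adjoin k {t}) K) |
      ¬ (ofPrime p).1 (α (ofPrime p)) ≤ 1}.Finite :=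
    hα.preimage (ofPrime_injective.injOn)
  obtain ⟨f, hf1, hf2⟩ := Groth.Agent.MiscA.WCDedekind.exists_approx (K := K) hfin.toFinset
    (fun q => α (ofPrime q))
  refine ⟨f, ?_⟩
  intro P ht
  obtain ⟨p, rfl⟩ := exists_ofPrime_eq (t := t) P ht
  by_cases hPS : p ∈ hfin.toFinset
  · have h3 := hf1 _ hPS
    rw [Valuation.map_sub_swap]
    exact h3
  · have h3 : (ofPrime p).1 (α (ofPrime p)) ≤ 1 := by
      by_contra h4
      exact hPS (by simpa using h4)
    have h4 := hf2 _ hPS
    exact ((ofPrime p).1.map_sub _ _).trans (max_le h3 h4)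

end Approx

section Infinity

theorem exists_pow_bound {t : K} {P : Place k K} (ht : ¬ P.1 t ≤ 1) (e : K) :
    ∃ M₀ : ℕ, ∀ M, M₀ ≤ M → P.1 (t⁻¹ ^ M * e) ≤ 1 := by
  rw [not_le, one_lt_val_iff] at ht
  have ht0 : t ≠ 0 := by
    rintro rfl
    simp at ht
  by_cases he : e = 0
  · exact ⟨0, fun M _ => by simp [he]⟩
  refine ⟨(-(P.ord e)).toNat, fun M hM => ?_⟩
  have h0 : t⁻¹ ^ M ≠ 0 := pow_ne_zero _ (inv_ne_zero ht0)
  rw [val_le_one_iff P (mul_ne_zero h0 he), ord_mul P h0 he, ord_pow, ord_inv]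
  have h4 : -(P.ord e) ≤ M := by omega
  have h6 : (M : ℤ) ≤ (M : ℤ) * (-(P.ord t)) := le_mul_of_one_le_right (by positivity) (by omega)
  linarith

theorem val_aeval {t : K} {P : Place k K} (ht : ¬ P.1 t ≤ 1) {b : k[X]}
    (hb : b ≠ 0) : P.1 (aeval t b) = P.1 t ^ b.natDegree := by
  have h1 : P.1.IsTrivialOn k := ⟨fun c hc => val_algebraMap P hc⟩
  exact valuation_aeval_eq_valuation_X_pow_natDegree_of_one_lt_valuation_X t (not_le.1 ht) hb

theorem val_div_le_one {t : K} {P : Place k K} (ht : ¬ P.1 t ≤ 1) {r b : k[X]}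
    (hb : b ≠ 0) (hr : r.degree ≤ b.degree) : P.1 (aeval t r / aeval t b) ≤ 1 := by
  by_cases hr0 : r = 0
  · simp [hr0]
  rw [map_div₀, val_aeval ht hb, val_aeval ht hr0]
  refine div_le_one_of_le₀ ?_ zero_le
  exact pow_le_pow_right₀ (not_le.1 ht).le (Polynomial.natDegree_le_natDegree hr)

/-- Decomposition of rational functions. -/
theorem exists_decomp {t : K} (h : IsGen k K t) (M : ℕ) (p b : k[X]) (hb : b ≠ 0) :
    ∃ (q w : k[X]) (c : K), w.degree < ((M + 1 : ℕ) : WithBot ℕ) ∧
      (∀ P : Place k K, ¬ P.1 t ≤ 1 → P.1 c ≤ 1) ∧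
      aeval t p / aeval t b = aeval t q + aeval t⁻¹ w + t⁻¹ ^ M * c := by
  have ht0 := h.ne_zero
  have hbt := aeval_ne_zero h.tr hb
  let Q := (X ^ M * p) / b
  let ρ := (X ^ M * p) % b
  have h1 : X ^ M * p = b * Q + ρ := (EuclideanDomain.div_add_mod _ _).symm
  have h2 : ρ.degree < b.degree := Polynomial.degree_mod_lt _ hb
  let q := Q /ₘ (X ^ M)
  let Q2 := Q %ₘ (X ^ M)
  have h3 : Q = Q2 + X ^ M * q := (modByMonic_add_div Q _).symm
  have h4 : Q2.degree < M := by
    have := degree_modByMonic_lt Q (monic_X_pow M)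
    rwa [degree_X_pow] at this
  have h5 : Q2.natDegree ≤ M := natDegree_le_of_degree_le h4.le
  refine ⟨q, reflect M Q2, aeval t ρ / aeval t b, ?_, ?_, ?_⟩
  · rw [Polynomial.degree_lt_iff_coeff_zero]
    intro m hm
    rw [coeff_reflect, revAt_eq_self_of_lt (by omega)]
    exact coeff_eq_zero_of_natDegree_lt (by omega)
  · intro P ht
    exact val_div_le_one ht hb h2.le
  · have h6 := congrArg (aeval t) h1
    rw [h3, map_mul, map_add, map_mul, map_add, map_mul, map_pow, aeval_X] at h6
    rw [← aeval_inv_reflect ht0 h5]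
    have h7 : t⁻¹ ^ M * t ^ M = 1 := by rw [← mul_pow, inv_mul_cancel₀ ht0, one_pow]
    have h8 : aeval t p = aeval t b * (aeval t q + t⁻¹ ^ M * aeval t Q2) +
        t⁻¹ ^ M * aeval t ρ := by
      calc aeval t p = t⁻¹ ^ M * (t ^ M * aeval t p) := by rw [← mul_assoc, h7, one_mul]
        _ = aeval t b * ((t⁻¹ ^ M * t ^ M) * aeval t q + t⁻¹ ^ M * aeval t Q2) +
        t⁻¹ ^ M * aeval t ρ := by
          rw [h6]
          ring
        _ = _ := by rw [h7, one_mul]
    rw [h8, add_div, mul_div_cancel_left₀ _ hbt, mul_div_assoc]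

theorem exists_decomp_field {t : K} (h : IsGen k K t) :
    ∃ W : Submodule k K, Module.Finite k W ∧ ∀ x : K, ∃ a b : K, ∃ w ∈ W, x = a + b + w ∧
      (∀ P : Place k K, P.1 t ≤ 1 → P.1 a ≤ 1) ∧ (∀ P : Place k K, ¬ P.1 t ≤ 1 → P.1 b ≤ 1) := by
  classical
  obtain ⟨s, hs, hs'⟩ := exists_gen h
  have hfin := h.finite_pole t
  have hM : ∃ M : ℕ, ∀ P : Place k K, ¬ P.1 t ≤ 1 → ∀ e ∈ s, P.1 (t⁻¹ ^ M * e) ≤ 1 := by
    have h1 : ∀ (P : Place k K) (e : K), ∃ M₀ : ℕ, ¬ P.1 t ≤ 1 → ∀ M, M₀ ≤ M →
        P.1 (t⁻¹ ^ M * e) ≤ 1 := by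
      intro P e
      by_cases ht : P.1 t ≤ 1
      · exact ⟨0, fun h => absurd ht h⟩
      · obtain ⟨M₀, hM₀⟩ := exists_pow_bound ht e
        exact ⟨M₀, fun _ => hM₀⟩
    choose M₀ hM₀ using h1
    refine ⟨hfin.toFinset.sup fun P => s.sup fun e => M₀ P e, fun P ht e he => ?_⟩
    refine hM₀ P e ht _ ?_
    refine le_trans (Finset.le_sup (f := fun e => M₀ P e) he) ?_
    exact Finset.le_sup (f := fun P => s.sup fun e => M₀ P e) (by simpa using ht)
  obtain ⟨M, hM⟩ := hM
  refine ⟨LinearMap.range (spanMap k t⁻¹ s (M + 1)), inferInstance, fun x => ?_⟩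
  obtain ⟨b, p, hb, hx⟩ := exists_gen_denom h hs' x
  have hbt := aeval_ne_zero h.tr hb
  have hx' : x = ∑ e ∈ s, aeval t (p e) / aeval t b * e := by
    rw [← mul_right_inj' hbt, hx, Finset.mul_sum]
    refine Finset.sum_congr rfl fun e _ => ?_
    field_simp
  choose q w c hw hc hd using fun e => exists_decomp h M (p e) b hb
  refine ⟨∑ e ∈ s, aeval t (q e) * e, ∑ e ∈ s, t⁻¹ ^ M * c e * e,
    ∑ e ∈ s, aeval t⁻¹ (w e) * e, mem_range_spanMap t⁻¹ s _ _ hw, ?_, ?_, ?_⟩
  · rw [hx', ← Finset.sum_add_distrib, ← Finset.sum_add_distrib]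
    refine Finset.sum_congr rfl fun e _ => ?_
    rw [hd]
    ring
  · intro P ht
    rw [← mem_O]
    exact sum_mem fun e he => P.O.mul_mem _ _ (val_aeval_le P ht _) (hs e he P ht)
  · intro P ht
    rw [← mem_O]
    refine sum_mem fun e he => ?_
    rw [mem_O]
    have h1 : t⁻¹ ^ M * c e * e = c e * (t⁻¹ ^ M * e) := by ring
    rw [h1, map_mul]
    exact mul_le_one' (hc e P ht) (hM P ht e he)

end Infinity

section FinThm

theorem crvG_finRes (h : ∃ t : K, IsGen k K t) : (crvG h).FinRes := by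
  obtain ⟨t, ht⟩ := h
  intro P
  obtain ⟨W, hW, hW'⟩ := exists_res_gen' ht P
  refine rlen_ne_top_of_le_sup (W := W) ?_
  intro f hf
  rw [Crv.mem_Fil, exp_zero] at hf
  obtain ⟨w, hw, hfw⟩ := hW' f hf
  refine Submodule.mem_sup.2 ⟨f - w, ?_, w, hw, by ring⟩
  rw [Crv.mem_Fil]
  exact lt_one_iff_le.1 hfw

open scoped IntermediateField.algebraAdjoinAdjoin in
theorem finite_algebraicClosure {t : K} (h : IsGen k K t) :
    Module.Finite k (algebraicClosure k K) := by
  have := h.fin
  by_contra hinf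
  -- arbitrarily large finite independent families
  have hrank : ∀ n : ℕ, ∃ f : Fin n → algebraicClosure k K, LinearIndependent k f := by
    intro n
    have : (n : Cardinal) ≤ Module.rank k (algebraicClosure k K) := by
      refine le_trans ?_ (not_lt.1 (fun h => hinf (Module.rank_lt_aleph0_iff.1 h)))
      exact (Cardinal.natCast_lt_aleph0).le
    exact Module.le_rank_iff.1 this
  obtain ⟨f, hf⟩ := hrank (Module.finrank (IntermediateField.adjoin k {t}) K + 1)
  have h1 : LinearIndependent k (fun i => (f i : K)) :=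
    hf.map' (algebraicClosure k K).val.toLinearMap
      (LinearMap.ker_eq_bot.2 (algebraicClosure k K).val.injective)
  have h2 := linearIndependent_adjoin h.tr h1 (fun i => mem_algebraicClosure_iff.1 (f i).2)
  rw [LinearIndependent.iff_fractionRing (Algebra.adjoin k {t})
    (IntermediateField.adjoin k {t})] at h2
  have := h2.fintype_card_le_finrank
  simp at this

/-- The curve of places has finite cohomology. -/
theorem crvG_fin (h : ∃ t : K, IsGen k K t) : (crvG h).Fin := by
  classical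
  have hG := h
  obtain ⟨t, ht⟩ := h
  refine ⟨crvG_finRes hG, ?_, ?_⟩
  · -- constants
    have hfin := finite_algebraicClosure ht
    unfold Crv.h0
    have hfin' : Module.Finite k ((algebraicClosure k K).toSubalgebra.toSubmodule.map
        (Crv.dg : K →ₗ[k] (Place k K → K))) := by
      have : Module.Finite k (algebraicClosure k K).toSubalgebra.toSubmodule := hfin
      infer_instance
    refine rlen_ne_top_of_le_sup (W := (algebraicClosure k K).toSubalgebra.toSubmodule.map
      (Crv.dg : K →ₗ[k] (Place k K → K))) ?_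
    rw [bot_sup_eq]
    rintro _ ⟨hα, ⟨f, rfl⟩⟩
    refine ⟨f, ?_, rfl⟩
    change f ∈ algebraicClosure k K
    rw [mem_algebraicClosure_iff]
    exact ht.isAlgebraic_of_forall_le fun P => hα P
  · -- `H^1`
    obtain ⟨W, hW, hWd⟩ := exists_decomp_field ht
    let ι : K →ₗ[k] (Place k K → K) := LinearMap.pi fun P => if P.1 t ≤ 1 then 0 else LinearMap.id
    have hι : ∀ (f : K) (P : Place k K), ι f P = if P.1 t ≤ 1 then 0 else f := by
      intro f P
      simp only [ι, LinearMap.pi_apply]
      split_ifs <;> rfl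
    unfold Crv.h1
    refine rlen_ne_top_of_le_sup (W := W.map ι) ?_
    intro α hα
    rw [Crv.mem_Rk] at hα
    -- approximation at infinity
    obtain ⟨f₁, hf₁⟩ := exists_approx_places ht.inv α hα
    have hf₁' : ∀ P : Place k K, ¬ P.1 t ≤ 1 → P.1 (α P - f₁) ≤ 1 := fun P hP =>
      hf₁ P ((le_or_inv_le P t).resolve_left hP)
    -- approximation outside infinity
    obtain ⟨g, hg⟩ := exists_approx_places ht (fun P => α P - f₁) (by
      refine (hα.union (ht.finite_pole f₁)).subset ?_
      intro P hP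
      by_contra hcon
      simp only [Set.mem_union, Set.mem_ofPred_eq, not_or, not_not] at hcon
      exact hP ((P.1.map_sub _ _).trans (max_le hcon.1 hcon.2)))
    obtain ⟨a, b, w, hw, hgabw, ha, hb⟩ := hWd g
    have hsum : α = ((α - Crv.dg (k := k) (f₁ + g - a) - ι (-w)) +
        Crv.dg (k := k) (f₁ + g - a)) + ι (-w) := by abel
    rw [hsum]
    refine Submodule.add_mem_sup (Submodule.add_mem_sup ?_ ⟨_, rfl⟩) ⟨-w, W.neg_mem hw, rfl⟩
    rw [Crv.mem_AA]
    intro P
    simp only [Pi.sub_apply, Crv.dg_apply, hι, Finsupp.coe_zero, Pi.zero_apply, exp_zero, crvG_v]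
    split_ifs with htP
    · have h1 : α P - (f₁ + g - a) - 0 = (α P - f₁ - g) + a := by ring
      rw [h1]
      exact P.1.map_add_le (hg P htP) (ha P htP)
    · have h1 : α P - (f₁ + g - a) - -w = (α P - f₁) - b := by
        rw [hgabw]
        ring
      rw [h1]
      exact (P.1.map_sub _ _).trans (max_le (hf₁' P htP) (hb P htP))

theorem crv_finRes (hK : IsFunctionField k K) : (crv hK).FinRes := crvG_finRes _

/-- The curve of places of a function field has finite cohomology. -/
theorem crv_fin (hK : IsFunctionField k K) : (crv hK).Fin := crvG_fin _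

end FinThm

end K660.CrvFin
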