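import Groth.Agent.FunFld.K660.LowGenus
import Groth.Agent.FunFld.K659.DegZeros

/-!
# Rational function fields and the Weierstrass form in genus one
-/

set_option autoImplicit false

namespace K660.Rational

open WithZero FunFld K660.Ord K660.Places K660.CrvFin K660.Compare K660.Weil K660.LowGenus
open K659.DegZeros IntermediateField

universe u v

variable {k : Type u} {K : Type v} [Field k] [Field K] [Algebra k K]

theorem adjoin_inv (x : K) : adjoin k ({x⁻¹} : Set K) = adjoin k ({x} : Set K) :=
  Groth.Agent.MiscA.WCPlace.adjoin_inv x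

/-- The degree of the divisor of poles of `x` is `[K : k(x)]`. -/
theorem deg_poles (hK : IsFunctionField k K) {x : K} (hx : Transcendental k x) :
    (zdiv k x⁻¹).deg = Module.finrank (adjoin k ({x} : Set K)) K := by
  rw [deg_zdiv_eq hK (fun h => hx (by simpa using h.inv)), adjoin_inv]

theorem zdiv_inv_apply (hK : IsFunctionField k K) (x : K) (P : Place k K) :
    zdiv k x⁻¹ P = max (-(P.ord x)) 0 := by
  rw [zdiv_apply hK, ord_inv]

/-- If the only pole of `x` is `P`, of order `n > 0`, then `[K : k(x)] = n deg P`. -/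
theorem finrank_eq_of_single_pole (hK : IsFunctionField k K) {x : K} {P : Place k K} {n : ℕ}
    (hn : 0 < n) (hP : P.ord x = -n) (hQ : ∀ Q : Place k K, Q ≠ P → 0 ≤ Q.ord x) :
    Module.finrank (adjoin k ({x} : Set K)) K = n * P.deg := by
  have hx : Transcendental k x := transcendental_of_ord_ne_zero P (by rw [hP]; omega)
  have h1 : zdiv k x⁻¹ = Finsupp.single P (n : ℤ) := by
    ext Q
    rw [zdiv_inv_apply hK]
    by_cases h : Q = P
    · subst h
      rw [hP, Finsupp.single_eq_same]
      omega
    · rw [Finsupp.single_eq_of_ne h]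
      have := hQ Q h
      omega
  have h2 := deg_poles hK hx
  rw [h1, deg_single] at h2
  exact_mod_cast h2.symm

theorem exists_simple_pole_iff (hK : IsFunctionField k K) :
    (∃ (x : K) (P : Place k K), P.deg = 1 ∧ P.ord x = -1 ∧
        ∀ Q : Place k K, Q ≠ P → 0 ≤ Q.ord x) ↔
      ∃ x : K, adjoin k ({x} : Set K) = ⊤ := by
  constructor
  · rintro ⟨x, P, hP1, hPx, hQ⟩
    refine ⟨x, ?_⟩
    rw [← IntermediateField.finrank_eq_one_iff_eq_top]
    rw [finrank_eq_of_single_pole hK (n := 1) one_pos (by exact_mod_cast hPx) hQ, hP1]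
  · rintro ⟨x, hx⟩
    have htr : Transcendental k x := by
      intro halg
      obtain ⟨t, ht⟩ := exists_isGen hK
      apply ht.tr
      have h1 : Algebra.IsAlgebraic k (adjoin k ({x} : Set K)) :=
        isAlgebraic_adjoin_simple halg.isIntegral
      have h2 : t ∈ adjoin k ({x} : Set K) := by
        rw [hx]
        exact mem_top
      have h3 := h1.isAlgebraic ⟨t, h2⟩
      exact (isAlgebraic_algebraMap_iff (A := K) (algebraMap (adjoin k ({x} : Set K)) K).injective).2 h3
    have h1 := deg_poles hK htr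
    rw [(IntermediateField.finrank_eq_one_iff_eq_top).2 hx] at h1
    obtain ⟨P, hP1, hP⟩ := eq_single_of_deg_eq_one hK (zdiv_nonneg x⁻¹) (by exact_mod_cast h1)
    refine ⟨x, P, hP1, ?_, fun Q hQ => ?_⟩
    · have h2 := zdiv_inv_apply hK x P
      rw [hP, Finsupp.single_eq_same] at h2
      omega
    · have h2 := zdiv_inv_apply hK x Q
      rw [hP, Finsupp.single_eq_of_ne hQ] at h2
      omega

theorem mem_L_single_iff {P : Place k K} {n : ℤ} {x : K} (hx : x ≠ 0) :
    x ∈ L (Finsupp.single P n : Divisor k K) ↔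
      -n ≤ P.ord x ∧ ∀ Q : Place k K, Q ≠ P → 0 ≤ Q.ord x := by
  rw [mem_L_iff_ord hx]
  constructor
  · intro h
    refine ⟨?_, fun Q hQ => ?_⟩
    · have := h P
      rw [Finsupp.single_eq_same] at this
      omega
    · have := h Q
      rw [Finsupp.single_eq_of_ne hQ] at this
      omega
  · rintro ⟨h1, h2⟩ Q
    by_cases hQ : Q = P
    · subst hQ
      rw [Finsupp.single_eq_same]
      omega
    · rw [Finsupp.single_eq_of_ne hQ]
      have := h2 Q hQ
      omega

theorem genus_zero_iff (hK : IsFunctionField k K) :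
    (genus k K = 0 ∧ ∃ P : Place k K, P.deg = 1) ↔
      ∃ x : K, adjoin k ({x} : Set K) = ⊤ := by
  rw [← exists_simple_pole_iff hK]
  constructor
  · rintro ⟨hg, P, hP⟩
    have h1 := ell_eq_of_deg_ge hK (D := Finsupp.single P 1) (by rw [hg, deg_single, hP]; norm_num)
    rw [deg_single, hP, hg] at h1
    norm_num at h1
    -- a nonconstant element
    have hfin := finite_L hK (Finsupp.single P 1 : Divisor k K)
    have hfin0 := finite_L hK (0 : Divisor k K)
    have h2 : ¬ L (Finsupp.single P 1 : Divisor k K) ≤ 1 := by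
      intro hle
      rw [← L_zero hK] at hle
      have h3 := Submodule.finrank_mono (R := k) hle
      change ell _ ≤ ell _ at h3
      rw [ell_zero hK] at h3
      have h4 : ell (Finsupp.single P 1 : Divisor k K) = 2 := by exact_mod_cast h1
      omega
    obtain ⟨x, hxL, hx1⟩ := SetLike.not_le_iff_exists.1 h2
    have hx0 : x ≠ 0 := by
      rintro rfl
      exact hx1 (Submodule.zero_mem _)
    rw [mem_L_single_iff hx0] at hxL
    refine ⟨x, P, hP, ?_, hxL.2⟩
    by_contra hne
    apply hx1
    rw [← L_zero hK, mem_L_iff_ord hx0]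
    intro Q
    rw [Finsupp.zero_apply]
    by_cases hQ : Q = P
    · subst hQ
      omega
    · have := hxL.2 Q hQ
      omega
  · rintro ⟨x, P, hP1, hPx, hQ⟩
    refine ⟨?_, P, hP1⟩
    have hx0 : x ≠ 0 := by
      rintro rfl
      rw [ord_zero] at hPx
      omega
    refine genus_eq_zero_of_mem_L_single hK hP1 (x := x) ?_ ?_
    · rw [mem_L_single_iff hx0]
      exact ⟨by omega, hQ⟩
    · rintro ⟨c, rfl⟩
      rw [ord_algebraMap] at hPx
      omega

/-- At a place of degree one every integral element is congruent to a constant. -/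
theorem exists_const_of_deg_eq_one {P : Place k K} (hP : P.deg = 1) {z : K} (hz : P.1 z ≤ 1) :
    ∃ c : k, P.1 (z - algebraMap k K c) < 1 := by
  have h1 : Module.finrank k (IsLocalRing.ResidueField P.O) = 1 := hP
  have h2 : Function.Surjective (algebraMap k (IsLocalRing.ResidueField P.O)) := by
    have hne : (1 : IsLocalRing.ResidueField P.O) ≠ 0 := one_ne_zero
    intro y
    obtain ⟨c, hc⟩ := (finrank_eq_one_iff_of_nonzero' _ hne).1 h1 y
    exact ⟨c, by
      rw [← hc]
      exact ((Algebra.smul_def c (1 : IsLocalRing.ResidueField P.O)).trans (mul_one _)).symm⟩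
  obtain ⟨c, hc⟩ := h2 (IsLocalRing.residue P.O ⟨z, hz⟩)
  refine ⟨c, ?_⟩
  have h3 : IsLocalRing.residue P.O (⟨z, hz⟩ - algebraMap k P.O c) = 0 := by
    rw [map_sub, sub_eq_zero]
    exact hc.symm
  rw [IsLocalRing.residue_eq_zero_iff] at h3
  exact (Valuation.mem_maximalIdeal_iff (v := P.1)).1 h3

/-- Reduction of the pole order by subtracting a multiple of `v`. -/
theorem exists_sub_smul_mem {P : Place k K} (hP : P.deg = 1) {n : ℤ} {v w : K} (hv0 : v ≠ 0)
    (hv : v ∈ L (Finsupp.single P n : Divisor k K)) (hvn : P.ord v = -n)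
    (hw : w ∈ L (Finsupp.single P n : Divisor k K)) :
    ∃ c : k, w - c • v ∈ L (Finsupp.single P (n - 1) : Divisor k K) := by
  have h1 : P.1 (w / v) ≤ 1 := by
    have h2 := hw P
    rw [Finsupp.single_eq_same] at h2
    rw [map_div₀, val_eq_exp P hv0, hvn, neg_neg]
    exact div_le_one_of_le₀ h2 zero_le
  obtain ⟨c, hc⟩ := exists_const_of_deg_eq_one hP h1
  refine ⟨c, ?_⟩
  intro Q
  by_cases hQ : Q = P
  · subst hQ
    rw [Finsupp.single_eq_same]
    have h3 : w - c • v = (w / v - algebraMap k K c) * v := by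
      rw [Algebra.smul_def]
      field_simp
    rw [h3, map_mul, val_eq_exp Q hv0, hvn, neg_neg]
    rw [lt_one_iff_le] at hc
    calc Q.1 (w / v - algebraMap k K c) * exp n ≤ exp (-1) * exp n := by gcongr
      _ = exp (n - 1) := by
        rw [← exp_add]
        congr 1
        ring
  · rw [Finsupp.single_eq_of_ne hQ, exp_zero]
    have h4 := hw Q
    have h5 := hv Q
    rw [Finsupp.single_eq_of_ne hQ, exp_zero] at h4 h5
    refine (Q.1.map_sub _ _).trans (max_le h4 ?_)
    rw [Algebra.smul_def, map_mul]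
    exact mul_le_one' (Q.2.1 c) h5

theorem exists_mem_L_ord_eq (hK : IsFunctionField k K) {P : Place k K} {n : ℤ}
    (h : ell (Finsupp.single P (n - 1) : Divisor k K) < ell (Finsupp.single P n : Divisor k K)) :
    ∃ x : K, x ≠ 0 ∧ x ∈ L (Finsupp.single P n : Divisor k K) ∧ P.ord x = -n := by
  have hfin := finite_L hK (Finsupp.single P (n - 1) : Divisor k K)
  have h2 : ¬ L (Finsupp.single P n : Divisor k K) ≤ L (Finsupp.single P (n - 1) : Divisor k K) := by
    intro hle
    have h3 := Submodule.finrank_mono (R := k) hle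
    change ell _ ≤ ell _ at h3
    omega
  obtain ⟨x, hxL, hx1⟩ := SetLike.not_le_iff_exists.1 h2
  have hx0 : x ≠ 0 := by
    rintro rfl
    exact hx1 (Submodule.zero_mem _)
  refine ⟨x, hx0, hxL, ?_⟩
  rw [mem_L_single_iff hx0] at hxL hx1
  by_contra hne
  exact hx1 ⟨by omega, hxL.2⟩

theorem mul_mem_L {D E : Divisor k K} {x y : K} (hx : x ∈ L D) (hy : y ∈ L E) :
    x * y ∈ L (D + E) := by
  intro P
  rw [map_mul, Finsupp.add_apply, exp_add]
  exact mul_le_mul' (hx P) (hy P)

theorem pow_mem_L {D : Divisor k K} {x : K} (hx : x ∈ L D) (n : ℕ) : x ^ n ∈ L (n • D) := by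
  intro P
  rw [map_pow, Finsupp.smul_apply, exp_nsmul]
  exact pow_le_pow_left₀ zero_le (hx P) n

theorem genus_one_weierstrass (hK : IsFunctionField k K) (hg : genus k K = 1) {P₀ : Place k K}
    (hP : P₀.deg = 1) :
    ∃ x y : K, x ∈ L (Finsupp.single P₀ 2) ∧ y ∈ L (Finsupp.single P₀ 3) ∧
      P₀.ord x = -2 ∧ P₀.ord y = -3 ∧
      adjoin k ({x, y} : Set K) = ⊤ ∧
      ∃ f g : Polynomial k, f.natDegree ≤ 1 ∧ g.natDegree = 3 ∧
        y ^ 2 + Polynomial.aeval x f * y + Polynomial.aeval x g = 0 := by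
  have hell : ∀ n : ℤ, 1 ≤ n → (ell (Finsupp.single P₀ n : Divisor k K) : ℤ) = n := by
    intro n hn
    rw [ell_eq_of_deg_ge hK (by rw [hg, deg_single, hP]; push_cast; omega), deg_single, hP, hg]
    push_cast
    ring
  obtain ⟨x, hx0, hxL, hx⟩ := exists_mem_L_ord_eq hK (P := P₀) (n := 2) (by
    have h1 := hell 2 (by norm_num)
    have h2 := hell 1 (by norm_num)
    norm_num
    omega)
  obtain ⟨y, hy0, hyL, hy⟩ := exists_mem_L_ord_eq hK (P := P₀) (n := 3) (by
    have h1 := hell 3 (by norm_num)
    have h2 := hell 2 (by norm_num)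
    norm_num
    omega)
  refine ⟨x, y, hxL, hyL, hx, hy, ?_, ?_⟩
  · -- degrees
    have h1 : Module.finrank (adjoin k ({x} : Set K)) K = 2 := by
      rw [finrank_eq_of_single_pole hK (n := 2) (by norm_num) (by exact_mod_cast hx)
        ((mem_L_single_iff hx0).1 hxL).2, hP]
    have h2 : Module.finrank (adjoin k ({y} : Set K)) K = 3 := by
      rw [finrank_eq_of_single_pole hK (n := 3) (by norm_num) (by exact_mod_cast hy)
        ((mem_L_single_iff hy0).1 hyL).2, hP]
    have h3 : Module.finrank (adjoin k ({x, y} : Set K)) K ∣ 2 := by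
      rw [← h1]
      apply IntermediateField.finrank_dvd_of_le_left
      exact adjoin.mono k _ _ (by simp)
    have h4 : Module.finrank (adjoin k ({x, y} : Set K)) K ∣ 3 := by
      rw [← h2]
      apply IntermediateField.finrank_dvd_of_le_left
      exact adjoin.mono k _ _ (by simp)
    rw [← IntermediateField.finrank_eq_one_iff_eq_top]
    have h5 := Nat.dvd_gcd h3 h4
    norm_num at h5
    exact h5
  · -- the equation
    have hs : ∀ m n : ℤ, (Finsupp.single P₀ m : Divisor k K) + Finsupp.single P₀ n =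
        Finsupp.single P₀ (m + n) := fun m n => (Finsupp.single_add _ _ _).symm
    have hy2 : y ^ 2 ∈ L (Finsupp.single P₀ 6 : Divisor k K) := by
      have := mul_mem_L hyL hyL
      rw [hs] at this
      rw [sq]
      exact this
    have hx2 : x ^ 2 ∈ L (Finsupp.single P₀ 4 : Divisor k K) := by
      have := mul_mem_L hxL hxL
      rw [hs] at this
      rw [sq]
      exact this
    have hx3 : x ^ 3 ∈ L (Finsupp.single P₀ 6 : Divisor k K) := by
      have := mul_mem_L hx2 hxL
      rw [hs] at this
      rw [pow_succ]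
      exact this
    have hxy : x * y ∈ L (Finsupp.single P₀ 5 : Divisor k K) := by
      have := mul_mem_L hxL hyL
      rwa [hs] at this
    obtain ⟨c6, h6⟩ := exists_sub_smul_mem hP (pow_ne_zero 3 hx0) hx3 (by
      rw [ord_pow, hx]; norm_num) hy2
    obtain ⟨c5, h5⟩ := exists_sub_smul_mem hP (n := 5) (mul_ne_zero hx0 hy0) hxy (by
      rw [ord_mul P₀ hx0 hy0, hx, hy]; norm_num) h6
    obtain ⟨c4, h4⟩ := exists_sub_smul_mem hP (n := 4) (pow_ne_zero 2 hx0) hx2 (by
      rw [ord_pow, hx]; norm_num) h5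
    obtain ⟨c3, h3⟩ := exists_sub_smul_mem hP (n := 3) hy0 hyL hy h4
    obtain ⟨c2, h2⟩ := exists_sub_smul_mem hP (n := 2) hx0 hxL hx h3
    -- `L(P₀) = k`
    obtain ⟨c0, h0⟩ : ∃ c : k, y ^ 2 - c6 • x ^ 3 - c5 • (x * y) - c4 • x ^ 2 - c3 • y - c2 • x =
        algebraMap k K c := by
      have h1 := hell 1 le_rfl
      by_contra hcon
      push Not at hcon
      have hg0 := genus_eq_zero_of_mem_L_single hK hP h2 (by
        rintro ⟨c, hc⟩
        exact hcon c hc.symm)
      omega
    have hc6 : c6 ≠ 0 := by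
      rintro rfl
      rw [zero_smul, sub_zero] at h6
      have h7 := ((mem_L_single_iff (pow_ne_zero 2 hy0)).1 h6).1
      rw [ord_pow, hy] at h7
      norm_num at h7
    refine ⟨-(Polynomial.C c5 * Polynomial.X + Polynomial.C c3),
      -(Polynomial.C c6 * Polynomial.X ^ 3 + Polynomial.C c4 * Polynomial.X ^ 2 +
        Polynomial.C c2 * Polynomial.X + Polynomial.C c0), ?_, ?_, ?_⟩
    · rw [Polynomial.natDegree_neg]
      exact Polynomial.natDegree_linear_le
    · rw [Polynomial.natDegree_neg]
      exact Polynomial.natDegree_cubic hc6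
    · simp only [map_neg, map_add, map_mul, Polynomial.aeval_C, Polynomial.aeval_X, map_pow]
      simp only [Algebra.smul_def] at h0
      linear_combination h0

end K660.Rational
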