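import Groth.Prelude.Def_W4bk4goldsch23FF
import Groth.Agent.S0570
import Groth.Agent.S2656
import Groth.Agent.Ega4B.NagBasic
import Groth.Agent.MiscA.WCPlace

/-!
# The integral closure of `k[t]` in a function field of one variable

For `t` transcendental over `k` with `K` finite over `k(t)` (no separability), the integral closure `B` of
`k[t]` in `K` is module-finite over `k[t]`, is a Dedekind domain and has fraction field `K`.
-/

set_option autoImplicit false

namespace K660.Ded

open Polynomial IsDedekindDomain

universe u v

/-- If the integral closure of a Dedekind domain in a finite extension of its fraction field is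
module-finite, it is a Dedekind domain. -/
theorem isDedekindDomain_of_finite (A : Type*) [CommRing A] (K₀ : Type*) [Field K₀] [Algebra A K₀]
    [IsFractionRing A K₀] (K : Type*) [Field K] [Algebra A K] [Algebra K₀ K] [IsScalarTower A K₀ K]
    [FiniteDimensional K₀ K] [IsDedekindDomain A]
    (hfin : Module.Finite A (integralClosure A K)) : IsDedekindDomain (integralClosure A K) :=
  have : IsFractionRing (integralClosure A K) K :=
    IsIntegralClosure.isFractionRing_of_finite_extension A K₀ K (integralClosure A K)
  have : Algebra.IsIntegral A (integralClosure A K) := IsIntegralClosure.isIntegral_algebra A K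
  have : IsNoetherian A (integralClosure A K) := isNoetherian_of_isNoetherianRing_of_finite _ _
  { isNoetherianRing_iff.mpr <| isNoetherian_of_tower A inferInstance,
    Ring.DimensionLEOne.of_isIntegral A (integralClosure A K),
    (isIntegrallyClosed_iff K).mpr fun {x} hx =>
      ⟨IsIntegralClosure.mk' (integralClosure A K) x (isIntegral_trans (R := A) _ hx),
        IsIntegralClosure.algebraMap_mk' _ _ _⟩ with : IsDedekindDomain (integralClosure A K) }

variable {k : Type u} {K : Type v} [Field k] [Field K] [Algebra k K]

/-- `k[t]` is N-2. -/
theorem isN2_adjoin {t : K} (ht : Transcendental k t) : CAlg.IsN2 (Algebra.adjoin k {t}) := by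
  let k' : Subfield K := (algebraMap k K).fieldRange
  let e1 : k ≃+* k' := RingEquiv.ofBijective (algebraMap k K).rangeRestrictField
    ⟨(algebraMap k K).rangeRestrictField.injective, (algebraMap k K).rangeRestrictField_bijective.2⟩
  let e2 : k[X] ≃+* k'[X] := Polynomial.mapEquiv e1
  let e3 : k[X] ≃ₐ[k] Algebra.adjoin k {t} := Polynomial.algEquivOfTranscendental k t ht
  exact Groth.Agent.Ega4B.NagBasic.isN2_of_ringEquiv (e2.symm.trans e3.toRingEquiv)
    ((Groth.Agent.S0570.result k').2 (Groth.Agent.S2656.isN2_of_isField k' (Field.toIsField k')))

open scoped IntermediateField.algebraAdjoinAdjoin in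
/-- The integral closure of `k[t]` in `K` is module-finite. -/
theorem finite_integralClosure {t : K} (ht : Transcendental k t)
    (hfin : FiniteDimensional (IntermediateField.adjoin k {t}) K) :
    Module.Finite (Algebra.adjoin k {t}) (integralClosure (Algebra.adjoin k {t}) K) :=
  Groth.Agent.Ega4B.NagBasic.n2For (Algebra.adjoin k {t}) (isN2_adjoin ht)
    (IntermediateField.adjoin k {t}) K

open scoped IntermediateField.algebraAdjoinAdjoin in
/-- The integral closure of `k[t]` in `K` is a Dedekind domain. -/
theorem isDedekindDomain {t : K} (ht : Transcendental k t)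
    (hfin : FiniteDimensional (IntermediateField.adjoin k {t}) K) :
    IsDedekindDomain (integralClosure (Algebra.adjoin k {t}) K) := by
  have := Groth.Agent.MiscA.WCPlace.isPrincipalIdealRing_adjoin ht
  exact isDedekindDomain_of_finite (Algebra.adjoin k {t}) (IntermediateField.adjoin k {t}) K
    (finite_integralClosure ht hfin)

open scoped IntermediateField.algebraAdjoinAdjoin in
/-- The integral closure of `k[t]` in `K` has fraction field `K`. -/
theorem isFractionRing {t : K} (hfin : FiniteDimensional (IntermediateField.adjoin k {t}) K) :
    IsFractionRing (integralClosure (Algebra.adjoin k {t}) K) K :=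
  integralClosure.isFractionRing_of_finite_extension (IntermediateField.adjoin k {t}) K

theorem isPrincipalIdealRing_adjoin {t : K} (ht : Transcendental k t) :
    IsPrincipalIdealRing (Algebra.adjoin k {t}) :=
  Groth.Agent.MiscA.WCPlace.isPrincipalIdealRing_adjoin ht

open scoped IntermediateField.algebraAdjoinAdjoin in
/-- The integral closure of `k[t]` in `K` is a free `k[t]`-module of rank `[K : k(t)]`. -/
theorem free_and_finrank {t : K} (ht : Transcendental k t)
    (hfin : FiniteDimensional (IntermediateField.adjoin k {t}) K) :
    Module.Free (Algebra.adjoin k {t}) (integralClosure (Algebra.adjoin k {t}) K) ∧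
    Module.finrank (Algebra.adjoin k {t}) (integralClosure (Algebra.adjoin k {t}) K) =
      Module.finrank (IntermediateField.adjoin k {t}) K := by
  have := isPrincipalIdealRing_adjoin ht
  have h1 := finite_integralClosure ht hfin
  have h0 : Module.IsTorsionFree (Algebra.adjoin k {t}) (integralClosure (Algebra.adjoin k {t}) K) :=
    inferInstance
  have h2 : Module.Free (Algebra.adjoin k {t}) (integralClosure (Algebra.adjoin k {t}) K) :=
    inferInstance
  refine ⟨h2, ?_⟩
  have : IsLocalization (Algebra.algebraMapSubmonoid (integralClosure (Algebra.adjoin k {t}) K)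
      (nonZeroDivisors (Algebra.adjoin k {t}))) K :=
    IsIntegralClosure.isLocalization (Algebra.adjoin k {t}) (IntermediateField.adjoin k {t}) K
      (integralClosure (Algebra.adjoin k {t}) K)
  let b := Module.Basis.localizationLocalization (IntermediateField.adjoin k {t})
    (nonZeroDivisors (Algebra.adjoin k {t})) K
    (Module.Free.chooseBasis (Algebra.adjoin k {t}) (integralClosure (Algebra.adjoin k {t}) K))
  rw [Module.finrank_eq_card_chooseBasisIndex, Module.finrank_eq_card_basis b]

end K660.Ded
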