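import Groth.Agent.FunFld.K660.Sep
import Mathlib.FieldTheory.PurelyInseparable.Basic
import Mathlib.FieldTheory.KummerPolynomial

/-!
# The field `k K^p` of a geometric function field of one variable
-/

set_option autoImplicit false

namespace K660.FrobDeg

open FunFld K660.Places K660.Sep TensorProduct IntermediateField

universe u v

variable {k : Type u} {K : Type v} [Field k] [Field K] [Algebra k K]

/-- A derivation over `k` killing `x`, with `K/k(x)` separable, is zero. -/
theorem derivation_eq_zero {x : K} [Algebra.IsSeparable (adjoin k ({x} : Set K)) K]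
    {M : Type*} [AddCommGroup M] [Module K M] [Module k M] [IsScalarTower k K M]
    (δ : Derivation k K M) (hx : δ x = 0) : δ = 0 := by
  have hE : ∀ y ∈ adjoin k ({x} : Set K), δ y = 0 := by
    intro y hy
    induction hy using adjoin_induction with
    | mem y hy => rw [Set.mem_singleton_iff] at hy; rw [hy, hx]
    | algebraMap y => exact δ.map_algebraMap y
    | add y z _ _ hy hz => rw [map_add, hy, hz, add_zero]
    | inv y _ hy =>
      by_cases hy0 : y = 0
      · rw [hy0, inv_zero, map_zero]
      · have h1 : δ (y * y⁻¹) = 0 := by rw [mul_inv_cancel₀ hy0]; exact δ.map_one_eq_zero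
        rw [Derivation.leibniz, hy, smul_zero, add_zero] at h1
        exact (smul_eq_zero.1 h1).resolve_left hy0
    | mul y z _ _ hy hz => rw [Derivation.leibniz, hy, hz, smul_zero, smul_zero, add_zero]
  let E := adjoin k ({x} : Set K)
  have hsm : ∀ (a : E) (m : M), a • m = (algebraMap E K a) • m := fun a m => rfl
  have htower : IsScalarTower E K M := ⟨fun a b m => by
    rw [hsm, smul_smul, Algebra.smul_def]⟩
  let δ' : Derivation E K M :=
    { toFun := δ
      map_add' := map_add δ
      map_smul' := fun a y => by
        rw [Algebra.smul_def, Derivation.leibniz]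
        have : δ (algebraMap E K a) = 0 := hE _ a.2
        rw [this, smul_zero, add_zero]
        rfl
      map_one_eq_zero' := δ.map_one_eq_zero
      leibniz' := δ.leibniz }
  have h1 : Algebra.FormallyUnramified E K := Algebra.FormallyUnramified.of_isSeparable E K
  have h2 : Subsingleton (Ω[K⁄E]) := h1.subsingleton_kaehlerDifferential
  ext y
  have h3 : δ' y = δ'.liftKaehlerDifferential (KaehlerDifferential.D E K y) :=
    (δ'.liftKaehlerDifferential_comp_D y).symm
  rw [Subsingleton.elim (KaehlerDifferential.D E K y) 0, map_zero] at h3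
  exact h3

/-- The kernel of a derivation as an intermediate field. -/
def kerD {M : Type*} [AddCommGroup M] [Module K M] [Module k M] [IsScalarTower k K M]
    (δ : Derivation k K M) : IntermediateField k K where
  carrier := {x | δ x = 0}
  mul_mem' {y z} (hy : δ y = 0) (hz : δ z = 0) := by
    change δ (y * z) = 0
    rw [Derivation.leibniz, hy, hz, smul_zero, smul_zero, add_zero]
  add_mem' {y z} (hy : δ y = 0) (hz : δ z = 0) := by
    change δ (y + z) = 0
    rw [map_add, hy, hz, add_zero]
  algebraMap_mem' c := δ.map_algebraMap c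
  inv_mem' y (hy : δ y = 0) := by
    change δ y⁻¹ = 0
    by_cases hy0 : y = 0
    · rw [hy0, inv_zero, map_zero]
    · have h1 : δ (y * y⁻¹) = 0 := by rw [mul_inv_cancel₀ hy0]; exact δ.map_one_eq_zero
      rw [Derivation.leibniz, hy, smul_zero, add_zero] at h1
      exact (smul_eq_zero.1 h1).resolve_left hy0

theorem mem_kerD {M : Type*} [AddCommGroup M] [Module K M] [Module k M] [IsScalarTower k K M]
    (δ : Derivation k K M) (x : K) : x ∈ kerD δ ↔ δ x = 0 := Iff.rfl

variable (k K) in
/-- The field `k K^p`. -/
abbrev kKp (p : ℕ) : IntermediateField k K := adjoin k (Set.range fun y : K => y ^ p)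

theorem pow_mem_kKp (p : ℕ) (y : K) : y ^ p ∈ kKp k K p := subset_adjoin k _ ⟨y, rfl⟩

theorem D_eq_zero_of_mem (p : ℕ) [CharP K p] {x : K} (hx : x ∈ kKp k K p) {M : Type*}
    [AddCommGroup M] [Module K M] [Module k M] [IsScalarTower k K M] (δ : Derivation k K M) :
    δ x = 0 := by
  have h : kKp k K p ≤ kerD δ := by
    rw [adjoin_le_iff]
    rintro _ ⟨y, rfl⟩
    change δ (y ^ p) = 0
    rw [Derivation.leibniz_pow, ← Nat.cast_smul_eq_nsmul K, CharP.cast_eq_zero, zero_smul]
  exact h hx

/-- If `Ω_{K/k}` is one-dimensional: `dx ≠ 0` iff `K/k(x)` is separable. -/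
theorem D_ne_zero_iff_isSeparable (hess : Algebra.EssFiniteType k K)
    (h1 : Module.finrank K (Ω[K⁄k]) = 1) (x : K) :
    KaehlerDifferential.D k K x ≠ 0 ↔ Algebra.IsSeparable (adjoin k ({x} : Set K)) K := by
  constructor
  · intro hx
    let E := adjoin k ({x} : Set K)
    have hess' : Algebra.EssFiniteType E K := Algebra.EssFiniteType.of_comp k E K
    have h2 : Subsingleton (Ω[K⁄E]) := by
      rw [← Submodule.subsingleton_iff K]
      refine subsingleton_of_bot_eq_top ?_
      rw [eq_comm, ← KaehlerDifferential.span_range_derivation, Submodule.span_eq_bot]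
      rintro _ ⟨y, rfl⟩
      obtain ⟨c, hc⟩ := (finrank_eq_one_iff_of_nonzero' _ hx).1 h1 (KaehlerDifferential.D k K y)
      let φ : (Ω[K⁄k]) →ₗ[K] (Ω[K⁄E]) :=
        ((KaehlerDifferential.D E K).restrictScalars k).liftKaehlerDifferential
      have h3 : ∀ z, φ (KaehlerDifferential.D k K z) = KaehlerDifferential.D E K z := fun z =>
        Derivation.liftKaehlerDifferential_comp_D _ z
      rw [← h3, ← hc, map_smul, h3]
      have h4 : KaehlerDifferential.D E K x = 0 := by
        change KaehlerDifferential.D E K (algebraMap E K ⟨x, subset_adjoin k _ rfl⟩) = 0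
        exact Derivation.map_algebraMap _ _
      rw [h4, smul_zero]
    have h5 : Algebra.FormallyUnramified E K := ⟨h2⟩
    exact Algebra.FormallyUnramified.isSeparable E K
  · intro hsep hx
    have h2 := derivation_eq_zero (x := x) (KaehlerDifferential.D k K) hx
    have h3 : Subsingleton (Ω[K⁄k]) := by
      rw [← Submodule.subsingleton_iff K]
      refine subsingleton_of_bot_eq_top ?_
      rw [eq_comm, ← KaehlerDifferential.span_range_derivation, Submodule.span_eq_bot]
      rintro _ ⟨y, rfl⟩
      exact congrArg (fun d : Derivation k K (Ω[K⁄k]) => d y) h2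
    rw [Module.finrank_zero_of_subsingleton] at h1
    exact zero_ne_one h1

section CharP

variable (p : ℕ) [hp : Fact p.Prime] [CharP K p]

theorem adjoin_eq_top {t : K} (hsep : Algebra.IsSeparable (adjoin k ({t} : Set K)) K) :
    adjoin (kKp k K p) ({t} : Set K) = ⊤ := by
  let F := kKp k K p
  let E := adjoin F ({t} : Set K)
  have hle : adjoin k ({t} : Set K) ≤ E.restrictScalars k := by
    rw [adjoin_simple_le_iff]
    exact mem_adjoin_simple_self _ t
  let _ : Algebra (adjoin k ({t} : Set K)) E := (inclusion hle).toRingHom.toAlgebra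
  have : IsScalarTower (adjoin k ({t} : Set K)) E K := IsScalarTower.of_algebraMap_eq fun x => rfl
  have h1 : Algebra.IsSeparable E K :=
    Algebra.isSeparable_tower_top_of_isSeparable (adjoin k ({t} : Set K)) E K
  have hE : ExpChar E p := by
    have : CharP E p := (algebraMap E K).charP (algebraMap E K).injective p
    exact ExpChar.prime hp.out
  have h2 : IsPurelyInseparable E K := by
    rw [isPurelyInseparable_iff_pow_mem E p]
    intro x
    refine ⟨1, ⟨⟨x ^ p, ?_⟩, ?_⟩⟩
    · exact _root_.algebraMap_mem E (⟨x ^ p, pow_mem_kKp p x⟩ : F)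
    · rw [pow_one]
      rfl
  have h3 : Function.Surjective (algebraMap E K) :=
    IsPurelyInseparable.surjective_algebraMap_of_isSeparable E K
  rw [eq_top_iff]
  intro x _
  obtain ⟨y, rfl⟩ := h3 x
  exact y.2

omit hp in
theorem notMem_of_D_ne_zero {t : K} (h : KaehlerDifferential.D k K t ≠ 0) : t ∉ kKp k K p :=
  fun h' => h (D_eq_zero_of_mem p h' _)

/-- An element outside `k K^p` has degree `p` over it. -/
theorem finrank_adjoin_of_notMem {t : K} (h : t ∉ kKp k K p) :
    Module.finrank (kKp k K p) (adjoin (kKp k K p) ({t} : Set K)) = p := by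
  let F := kKp k K p
  let a : F := ⟨t ^ p, pow_mem_kKp p t⟩
  have hirr : Irreducible (Polynomial.X ^ p - Polynomial.C a : Polynomial F) := by
    apply X_pow_sub_C_irreducible_of_prime hp.out
    intro b hb
    have h1 : (b : K) ^ p = t ^ p := congrArg Subtype.val hb
    have h2 : (b : K) = t := frobenius_inj K p (by simpa [frobenius_def] using h1)
    exact h (h2 ▸ b.2)
  have hmin : minpoly F t = Polynomial.X ^ p - Polynomial.C a := by
    symm
    refine minpoly.eq_of_irreducible_of_monic hirr ?_ (Polynomial.monic_X_pow_sub_C a hp.out.ne_zero)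
    simp only [map_sub, map_pow, Polynomial.aeval_X, Polynomial.aeval_C]
    exact sub_self _
  have hint : IsIntegral F t := by
    refine ⟨Polynomial.X ^ p - Polynomial.C a, Polynomial.monic_X_pow_sub_C a hp.out.ne_zero, ?_⟩
    simp only [Polynomial.eval₂_sub, Polynomial.eval₂_X_pow, Polynomial.eval₂_C]
    exact sub_self _
  change Module.finrank F (adjoin F ({t} : Set K)) = p
  rw [adjoin.finrank hint, hmin, Polynomial.natDegree_X_pow_sub_C]

theorem finrank_kKp {t : K} (ht : IsGen k K t)
    (hsep : Algebra.IsSeparable (adjoin k ({t} : Set K)) K) :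
    Module.finrank (kKp k K p) K = p := by
  have h1 := adjoin_eq_top p hsep
  have hD : KaehlerDifferential.D k K t ≠ 0 :=
    (D_ne_zero_iff_isSeparable (essFiniteType ht) (finrank_kaehler ht hsep) t).2 hsep
  have h2 := finrank_adjoin_of_notMem p (notMem_of_D_ne_zero p hD)
  rw [h1, IntermediateField.finrank_top'] at h2
  exact h2

/-- If `dx = 0` then `x ∈ k K^p`. -/
theorem mem_kKp_of_D_eq_zero {t : K} (ht : IsGen k K t)
    (hsep : Algebra.IsSeparable (adjoin k ({t} : Set K)) K) {x : K}
    (hx : KaehlerDifferential.D k K x = 0) : x ∈ kKp k K p := by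
  by_contra hxF
  let F := kKp k K p
  have h1 := finrank_kKp p ht hsep
  have h2 := finrank_adjoin_of_notMem p hxF
  have hfd : FiniteDimensional F K := Module.finite_of_finrank_pos (by rw [h1]; exact hp.out.pos)
  have h3 : adjoin F ({x} : Set K) = ⊤ := by
    apply IntermediateField.eq_of_le_of_finrank_eq le_top
    rw [IntermediateField.finrank_top']
    exact h2.trans h1.symm
  have h4 : ∀ y : K, KaehlerDifferential.D F K y = 0 := by
    have h5 : adjoin F ({x} : Set K) ≤ kerD (KaehlerDifferential.D F K) := by
      rw [adjoin_simple_le_iff, mem_kerD]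
      have h6 : ((KaehlerDifferential.D F K).restrictScalars k).liftKaehlerDifferential
          (KaehlerDifferential.D k K x) = KaehlerDifferential.D F K x :=
        Derivation.liftKaehlerDifferential_comp_D _ x
      rw [← h6, hx, map_zero]
    rw [h3] at h5
    exact fun y => h5 trivial
  have h7 : Subsingleton (Ω[K⁄F]) := by
    rw [← Submodule.subsingleton_iff K]
    refine subsingleton_of_bot_eq_top ?_
    rw [eq_comm, ← KaehlerDifferential.span_range_derivation, Submodule.span_eq_bot]
    rintro _ ⟨y, rfl⟩
    exact h4 y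
  have h8 : Algebra.FormallyUnramified F K := ⟨h7⟩
  have h9 : Algebra.IsSeparable F K := Algebra.FormallyUnramified.isSeparable F K
  have hE : ExpChar F p := by
    have : CharP F p := (algebraMap F K).charP (algebraMap F K).injective p
    exact ExpChar.prime hp.out
  have h10 : IsPurelyInseparable F K := by
    rw [isPurelyInseparable_iff_pow_mem F p]
    intro y
    refine ⟨1, ⟨⟨y ^ p, pow_mem_kKp p y⟩, ?_⟩⟩
    rw [pow_one]
    rfl
  obtain ⟨y, hy⟩ := IsPurelyInseparable.surjective_algebraMap_of_isSeparable F K x
  exact hxF (hy ▸ y.2)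

end CharP

end K660.FrobDeg
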